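import Groth.Agent.Pi1A.RamSeq
import Groth.Agent.Ega4A.CMCatenary

/-!
# Complete intersections inside an equidimensional closed subscheme of a Cohen–Macaulay local scheme
-/

set_option autoImplicit false
universe u

open RingTheory.Sequence IsLocalRing

namespace K88.CMLink

variable {R : Type u} [CommRing R]

/-- A weakly regular sequence of prescribed length in an ideal of large height. -/
theorem exists_seq [hR : LocCoh.IsCohenMacaulayLocalRing R] (I : Ideal R) (hI : I ≤ maximalIdeal R)
    (n : ℕ) (h : ∀ p : Ideal R, p.IsPrime → I ≤ p → (n : ℕ∞) ≤ p.height) :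
    ∀ k : ℕ, k ≤ n → ∃ rs : List R, rs.length = k ∧ IsWeaklyRegular R rs ∧ ∀ r ∈ rs, r ∈ I := by
  intro k
  induction k with
  | zero => intro _; exact ⟨[], rfl, IsWeaklyRegular.nil R R, by simp⟩
  | succ k ih =>
    intro hk
    obtain ⟨rs, hlen, hreg, hmem⟩ := ih (by omega)
    -- prime avoidance
    have hav : ∀ P ∈ associatedPrimes R (R ⧸ Ideal.ofList rs • (⊤ : Submodule R R)), ¬ I ≤ P := by
      intro P hP hle
      have hPp : P.IsPrime := hP.isPrime
      obtain ⟨q, hq, hqP⟩ := Ideal.exists_minimalPrimes_le hle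
      have hqp : q.IsPrime := hq.1.1
      refine Groth.Agent.Pi1A.RamSeq.not_le_of_mem_associatedPrimes hR rs
        (fun r hr => hI (hmem r hr)) hreg P hP q ?_ hqP
      refine lt_of_lt_of_le ?_ (h q hqp hq.1.2)
      rw [hlen]
      exact_mod_cast hk
    have hfin := associatedPrimes.finite R (R ⧸ Ideal.ofList rs • (⊤ : Submodule R R))
    obtain ⟨r, hrI, hr⟩ : ∃ r ∈ I,
        ∀ P ∈ associatedPrimes R (R ⧸ Ideal.ofList rs • (⊤ : Submodule R R)), r ∉ P := by
      by_contra hcon
      push Not at hcon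
      have hsub : (I : Set R) ⊆ ⋃ P ∈ associatedPrimes R
          (R ⧸ Ideal.ofList rs • (⊤ : Submodule R R)), ((id P : Ideal R) : Set R) := by
        intro r hr
        obtain ⟨P, hP, hrP⟩ := hcon r hr
        exact Set.mem_biUnion hP hrP
      obtain ⟨P, hP, hle⟩ := (Ideal.subset_union_prime_finite hfin (f := id) ⊤ ⊤
        (fun P hP _ _ => hP.isPrime)).mp hsub
      exact hav P hP hle
    refine ⟨rs ++ [r], by simp [hlen], ?_, ?_⟩
    · rw [isWeaklyRegular_append_iff]
      refine ⟨hreg, ?_⟩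
      rw [isWeaklyRegular_singleton_iff]
      have h1 : r ∉ ⋃ p ∈ associatedPrimes R (R ⧸ Ideal.ofList rs • (⊤ : Submodule R R)),
          (p : Set R) := by
        simp only [Set.mem_iUnion, not_exists]
        exact fun P hP => hr P hP
      rw [biUnion_associatedPrimes_eq_compl_regular] at h1
      simpa using h1
    · intro x hx
      rcases List.mem_append.mp hx with hx | hx
      · exact hmem x hx
      · rw [List.mem_singleton] at hx
        rw [hx]; exact hrI

theorem exists_nat_ringKrullDim (S : Type*) [CommRing S] [Nontrivial S] [FiniteRingKrullDim S] :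
    ∃ d : ℕ, ringKrullDim S = d := by
  have h6 := ringKrullDim_lt_top (R := S)
  have h7 : 0 ≤ ringKrullDim S := ringKrullDim_nonneg_of_nontrivial
  obtain ⟨e, he⟩ := WithBot.ne_bot_iff_exists.mp (ne_of_gt (lt_of_lt_of_le (WithBot.bot_lt_coe 0) h7))
  rw [← he] at h6 ⊢
  have h8 : e ≠ ⊤ := by
    rintro rfl
    exact lt_irrefl _ h6
  obtain ⟨d, rfl⟩ := ENat.ne_top_iff_exists.mp h8
  exact ⟨d, rfl⟩

/-- numerical form of `ht p + dim R/p = dim R`. -/
theorem exists_nat [hR : LocCoh.IsCohenMacaulayLocalRing R] (d : ℕ) (hd : ringKrullDim R = d)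
    (p : Ideal R) [hp : p.IsPrime] :
    ∃ a b : ℕ, p.height = a ∧ ringKrullDim (R ⧸ p) = b ∧ a + b = d := by
  have hM : LocCoh.IsCohenMacaulayModule R R := hR.supportDim_eq_depth
  have hsupp : Module.support R R = Set.univ := by
    rw [Module.support_eq_zeroLocus, Module.annihilator_eq_bot.mpr inferInstance]
    simp
  have h := Groth.Agent.Ega4A.CMCatenary.height_add_ringKrullDim_quotient hM hsupp p
  have : Nontrivial (R ⧸ p) := Ideal.Quotient.nontrivial_iff.mpr hp.ne_top
  obtain ⟨b, hb⟩ := exists_nat_ringKrullDim (R ⧸ p)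
  have hne : p.height ≠ ⊤ := Ideal.height_ne_top hp.ne_top
  obtain ⟨a, ha⟩ := ENat.ne_top_iff_exists.mp hne
  refine ⟨a, b, ha.symm, hb, ?_⟩
  rw [← ha, hb, hd] at h
  exact_mod_cast h

theorem main [hR : LocCoh.IsCohenMacaulayLocalRing R] (I : Ideal R)
    (hI : ∀ p ∈ I.minimalPrimes, ringKrullDim (R ⧸ p) = ringKrullDim (R ⧸ I)) :
    ∃ rs : List R, RingTheory.Sequence.IsWeaklyRegular R rs ∧ Ideal.ofList rs ≤ I ∧
      ringKrullDim (R ⧸ Ideal.ofList rs) = ringKrullDim (R ⧸ I) ∧
      I.minimalPrimes ⊆ (Ideal.ofList rs).minimalPrimes := by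
  by_cases hItop : I = ⊤
  · subst hItop
    refine ⟨[1], ?_, le_top, ?_, ?_⟩
    · rw [isWeaklyRegular_singleton_iff]
      exact IsSMulRegular.one R
    · rw [Ideal.ofList_singleton, Ideal.span_singleton_one]
    · rw [Ideal.minimalPrimes_top]
      exact Set.empty_subset _
  · have hIm : I ≤ maximalIdeal R := le_maximalIdeal hItop
    obtain ⟨d, hd⟩ := exists_nat_ringKrullDim R
    obtain ⟨⟨p₀, hp₀⟩⟩ : Nonempty I.minimalPrimes := Ideal.nonempty_minimalPrimes hItop
    have hp₀p : p₀.IsPrime := hp₀.1.1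
    obtain ⟨n, e, hn, he, hne⟩ := exists_nat d hd p₀
    have heI : ringKrullDim (R ⧸ I) = e := by rw [← hI p₀ hp₀, he]
    have hmin : ∀ p ∈ I.minimalPrimes, p.height = n := by
      intro p hp
      have : p.IsPrime := hp.1.1
      obtain ⟨a, b, ha, hb, hab⟩ := exists_nat d hd p
      have h1 := hI p hp
      rw [hb, heI] at h1
      have h2 : b = e := by exact_mod_cast h1
      rw [ha]
      have : a = n := by omega
      rw [this]
    obtain ⟨rs, hlen, hreg, hmem⟩ := exists_seq I hIm n (fun p hp hIp => by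
      obtain ⟨q, hq, hqp⟩ := Ideal.exists_minimalPrimes_le hIp
      rw [← hmin q hq]
      exact Ideal.height_mono hqp) n le_rfl
    have hle : Ideal.ofList rs ≤ I := by
      rw [Ideal.ofList, Ideal.span_le]
      exact fun r hr => hmem r hr
    have hreg' : IsRegular R rs :=
      (IsLocalRing.isRegular_iff_isWeaklyRegular_of_subset_maximalIdeal
        (fun r hr => hIm (hmem r hr))).mpr hreg
    have hne' : Ideal.ofList rs ≠ ⊤ := fun h => hItop (top_le_iff.mp (h ▸ hle))
    have : Nontrivial (R ⧸ Ideal.ofList rs) := Ideal.Quotient.nontrivial_iff.mpr hne'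
    obtain ⟨e', he'⟩ := exists_nat_ringKrullDim (R ⧸ Ideal.ofList rs)
    have hee : e' = e := by
      have h1 := ringKrullDim_add_length_eq_ringKrullDim_of_isRegular rs hreg'
      rw [he', hlen, hd] at h1
      have h2 : e' + n = d := by exact_mod_cast h1
      omega
    refine ⟨rs, hreg, hle, by rw [he', heI, hee], ?_⟩
    intro p hp
    have hpp : p.IsPrime := hp.1.1
    obtain ⟨q, hq, hqp⟩ := Ideal.exists_minimalPrimes_le (hle.trans hp.1.2)
    have hqprime : q.IsPrime := hq.1.1
    obtain ⟨a, b, ha, hb, hab⟩ := exists_nat d hd q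
    have hbe : b ≤ e := by
      have h1 : ringKrullDim (R ⧸ q) ≤ ringKrullDim (R ⧸ Ideal.ofList rs) :=
        ringKrullDim_le_of_surjective (Ideal.Quotient.factor hq.1.2)
          (Ideal.Quotient.factor_surjective hq.1.2)
      rw [hb, he', hee] at h1
      exact_mod_cast h1
    have hqp' : q = p := by
      by_contra hne2
      have hlt : q < p := lt_of_le_of_ne hqp hne2
      have h4 := Ideal.height_add_one_le_of_lt_of_isPrime hlt
      rw [ha, hmin p hp] at h4
      have h5 : a + 1 ≤ n := by exact_mod_cast h4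
      omega
    rw [← hqp']
    exact hq

end K88.CMLink
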