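import Mathlib.LinearAlgebra.TensorProduct.Tower
import Mathlib.LinearAlgebra.Matrix.ToLin
import Mathlib.LinearAlgebra.Matrix.NonsingularInverse
import Mathlib.Algebra.Module.Projective
import Mathlib.RingTheory.Finiteness.Basic
import Mathlib.RingTheory.Finiteness.Projective
import Mathlib.RingTheory.OrzechProperty

/-!
# Finite frames (dual bases) of finitely generated projective modules

`Frame R M n`: vectors `vec j`, functionals `coord j` with `∑ coord j x • vec j = x`.
`mat F G f` is the matrix of a linear map with respect to frames, `ofMat F G A` the converse;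
`Frame.baseChange`; `surjective_of_isUnit_det`.
-/

set_option autoImplicit false

open TensorProduct

namespace K88.Frames

universe u v w

/-- A finite frame (dual basis) of a module. -/
structure Frame (R : Type u) [CommRing R] (M : Type v) [AddCommGroup M] [Module R M] (n : ℕ) where
  vec : Fin n → M
  coord : Fin n → (M →ₗ[R] R)
  sum_coord : ∀ x : M, ∑ j, coord j x • vec j = x

variable {R : Type u} [CommRing R]
variable {M N P : Type*} [AddCommGroup M] [Module R M] [AddCommGroup N] [Module R N]
  [AddCommGroup P] [Module R P]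
variable {m n k : ℕ}

theorem exists_frame (R : Type u) [CommRing R] (M : Type v) [AddCommGroup M] [Module R M]
    [Module.Finite R M] [Module.Projective R M] : ∃ n, Nonempty (Frame R M n) := by
  obtain ⟨n, π, hπ⟩ := Module.Finite.exists_fin' R M
  obtain ⟨σ, hσ⟩ := Module.projective_lifting_property π LinearMap.id hπ
  refine ⟨n, ⟨⟨fun j => π (Pi.single j 1), fun j => (LinearMap.proj j) ∘ₗ σ, fun x => ?_⟩⟩⟩
  have h1 : π (σ x) = x := LinearMap.congr_fun hσ x
  conv_rhs => rw [← h1]
  have h2 : σ x = ∑ j, (σ x j) • (Pi.single j (1 : R) : Fin n → R) := by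
    ext i
    simp [Finset.sum_apply, Pi.single_apply]
  conv_rhs => rw [h2]
  rw [map_sum]
  refine Finset.sum_congr rfl fun j _ => ?_
  rw [map_smul]
  rfl

/-- The matrix of a linear map with respect to two frames. -/
def mat (F : Frame R M m) (G : Frame R N n) (f : M →ₗ[R] N) : Matrix (Fin n) (Fin m) R :=
  fun i j => G.coord i (f (F.vec j))

/-- The linear map attached to a matrix. -/
def ofMat (F : Frame R M m) (G : Frame R N n) (A : Matrix (Fin n) (Fin m) R) : M →ₗ[R] N :=
  ∑ i, ∑ j, A i j • (F.coord j).smulRight (G.vec i)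

theorem ofMat_apply (F : Frame R M m) (G : Frame R N n) (A : Matrix (Fin n) (Fin m) R) (x : M) :
    ofMat F G A x = ∑ i, ∑ j, A i j • (F.coord j x • G.vec i) := by
  simp [ofMat, LinearMap.sum_apply]

theorem mat_comp (F : Frame R M m) (G : Frame R N n) (H : Frame R P k)
    (f : M →ₗ[R] N) (g : N →ₗ[R] P) : mat F H (g ∘ₗ f) = mat G H g * mat F G f := by
  ext i j
  rw [Matrix.mul_apply]
  change H.coord i (g (f (F.vec j))) = _
  conv_lhs => rw [← G.sum_coord (f (F.vec j))]
  rw [map_sum, map_sum]
  refine Finset.sum_congr rfl fun l _ => ?_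
  rw [map_smul, map_smul, smul_eq_mul, mul_comm]
  rfl

theorem mat_ofMat (F : Frame R M m) (G : Frame R N n) (A : Matrix (Fin n) (Fin m) R) :
    mat F G (ofMat F G A) = mat G G LinearMap.id * A * mat F F LinearMap.id := by
  ext i j
  change G.coord i (ofMat F G A (F.vec j)) = _
  rw [ofMat_apply, map_sum, Matrix.mul_apply]
  simp only [Matrix.mul_apply, map_sum, map_smul, smul_eq_mul]
  rw [Finset.sum_comm]
  refine Finset.sum_congr rfl fun l _ => ?_
  rw [Finset.sum_mul]
  refine Finset.sum_congr rfl fun l' _ => ?_
  change _ = G.coord i (G.vec l') * A l' l * F.coord l (F.vec j)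
  ring

theorem mat_add (F : Frame R M m) (G : Frame R N n) (f g : M →ₗ[R] N) :
    mat F G (f + g) = mat F G f + mat F G g := by
  ext i j; simp [mat]

theorem mat_sub (F : Frame R M m) (G : Frame R N n) (f g : M →ₗ[R] N) :
    mat F G (f - g) = mat F G f - mat F G g := by
  ext i j; simp [mat]

/-- If `det (mat e + (1 - E))` is a unit then the endomorphism `e` is surjective. -/
theorem surjective_of_isUnit_det (F : Frame R M m) (e : M →ₗ[R] M)
    (h : IsUnit (mat F F e + (1 - mat F F LinearMap.id)).det) : Function.Surjective e := by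
  have h' : IsUnit (mat F F e + (1 - mat F F LinearMap.id)) := (Matrix.isUnit_iff_isUnit_det _).mpr h
  obtain ⟨U, hU⟩ := h'
  intro y
  let w : Fin m → R := fun i => F.coord i y
  let v : Fin m → R := Matrix.mulVec (↑U⁻¹ : Matrix (Fin m) (Fin m) R) w
  have hv : Matrix.mulVec (mat F F e + (1 - mat F F LinearMap.id)) v = w := by
    rw [← hU]; simp [v]
  let x : M := ∑ j, v j • F.vec j
  refine ⟨x, ?_⟩
  -- apply `∑ _ • vec`
  have h1 : ∀ (f : M →ₗ[R] M), ∑ i, (Matrix.mulVec (mat F F f) v) i • F.vec i = f x := by
    intro f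
    conv_rhs => rw [← F.sum_coord (f x)]
    refine Finset.sum_congr rfl fun i _ => ?_
    congr 1
    change ∑ j, mat F F f i j * v j = F.coord i (f (∑ j, v j • F.vec j))
    rw [map_sum, map_sum]
    refine Finset.sum_congr rfl fun j _ => ?_
    rw [map_smul, map_smul, smul_eq_mul, mul_comm]
    rfl
  have h2 : ∑ i, (Matrix.mulVec (mat F F e + (1 - mat F F LinearMap.id)) v) i • F.vec i = e x := by
    simp only [Matrix.add_mulVec, Matrix.sub_mulVec, Matrix.one_mulVec, Pi.add_apply,
      Pi.sub_apply, add_smul, sub_smul, Finset.sum_add_distrib, Finset.sum_sub_distrib]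
    rw [h1 e, h1 LinearMap.id]
    simp [x]
  rw [← h2, hv]
  exact F.sum_coord y

section baseChange

variable {R' : Type w} [CommRing R'] [Algebra R R']

/-- base change of a frame -/
noncomputable def Frame.baseChange (R' : Type w) [CommRing R'] [Algebra R R'] (F : Frame R M n) :
    Frame R' (R' ⊗[R] M) n where
  vec j := 1 ⊗ₜ F.vec j
  coord j := (AlgebraTensorModule.rid R R' R').toLinearMap ∘ₗ (F.coord j).baseChange R'
  sum_coord x := by
    induction x using TensorProduct.induction_on with
    | zero => simp
    | add x y hx hy =>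
      simp only [map_add, add_smul, Finset.sum_add_distrib]
      rw [hx, hy]
    | tmul r x =>
      have : ∀ j, ((AlgebraTensorModule.rid R R' R').toLinearMap ∘ₗ (F.coord j).baseChange R')
          (r ⊗ₜ x) • ((1 : R') ⊗ₜ[R] F.vec j) = r ⊗ₜ[R] (F.coord j x • F.vec j) := by
        intro j
        simp only [LinearMap.comp_apply, LinearMap.baseChange_tmul, LinearEquiv.coe_coe,
          AlgebraTensorModule.rid_tmul]
        rw [TensorProduct.smul_tmul', smul_eq_mul, mul_one, TensorProduct.smul_tmul]
      simp only [this]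
      rw [← TensorProduct.tmul_sum, F.sum_coord]

theorem baseChange_coord_tmul (F : Frame R M n) (j : Fin n) (r : R') (x : M) :
    (F.baseChange R').coord j (r ⊗ₜ x) = F.coord j x • r := by
  change ((AlgebraTensorModule.rid R R' R').toLinearMap ∘ₗ (F.coord j).baseChange R') (r ⊗ₜ x) = _
  simp only [LinearMap.comp_apply, LinearMap.baseChange_tmul, LinearEquiv.coe_coe,
    AlgebraTensorModule.rid_tmul]

theorem mat_baseChange (F : Frame R M m) (G : Frame R N n) (f : M →ₗ[R] N) :
    mat (F.baseChange R') (G.baseChange R') (f.baseChange R') =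
      (mat F G f).map (algebraMap R R') := by
  ext i j
  change (G.baseChange R').coord i (f.baseChange R' ((1 : R') ⊗ₜ F.vec j)) = _
  rw [LinearMap.baseChange_tmul, baseChange_coord_tmul, Matrix.map_apply, Algebra.smul_def, mul_one]
  rfl

theorem mat_baseChange_id (F : Frame R M m) :
    mat (F.baseChange R') (F.baseChange R') LinearMap.id =
      (mat F F LinearMap.id).map (algebraMap R R') := by
  rw [← mat_baseChange, LinearMap.baseChange_id]

end baseChange

end K88.Frames
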