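import Mathlib.RingTheory.GradedAlgebra.Homogeneous.Ideal
import Mathlib.RingTheory.GradedAlgebra.Radical
import Mathlib.RingTheory.Ideal.Prime

/-!
# Homogeneous prime avoidance

`exists_homogeneous_avoid`: in an `ℕ`-graded ring, a homogeneous ideal `K`, finitely many primes none
of which contains `K` or the irrelevant ideal: there is a homogeneous element of positive degree of
`K` in none of them.
-/

set_option autoImplicit false

namespace K88.HomAvoid

variable {A σ : Type*} [CommRing A] [SetLike σ A] [AddSubmonoidClass σ A]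
  (𝒜 : ℕ → σ) [GradedRing 𝒜]

theorem exists_homogeneous_notMem {K : Ideal A} (hK : K.IsHomogeneous 𝒜) {p : Ideal A}
    (h : ¬ K ≤ p) : ∃ (x : A) (i : ℕ), x ∈ 𝒜 i ∧ x ∈ K ∧ x ∉ p := by
  classical
  obtain ⟨x, hx, hxp⟩ := SetLike.not_le_iff_exists.mp h
  by_contra hcon
  push Not at hcon
  apply hxp
  rw [← DirectSum.sum_support_decompose 𝒜 x]
  exact p.sum_mem fun i _ => hcon _ i (SetLike.coe_mem _) (hK i hx)

theorem exists_avoid_aux {K : Ideal A} (hK : K.IsHomogeneous 𝒜)
    (hKpos : K ≤ (HomogeneousIdeal.irrelevant 𝒜).toIdeal) :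
    ∀ (n : ℕ) (P : Finset (Ideal A)), P.card = n →
      (∀ p ∈ P, p.IsPrime ∧ p.IsHomogeneous 𝒜 ∧ ¬ K ≤ p) →
      ∃ (z : A) (n : ℕ), 0 < n ∧ z ∈ 𝒜 n ∧ z ∈ K ∧ ∀ p ∈ P, z ∉ p := by
  classical
  have hpos : ∀ (x : A) (i : ℕ) (p : Ideal A), x ∈ 𝒜 i → x ∈ K → x ∉ p → 0 < i := by
    intro x i p hx hxK hxp
    rcases Nat.eq_zero_or_pos i with rfl | h
    · exfalso
      have h0 := (HomogeneousIdeal.mem_irrelevant_iff 𝒜 x).mp (hKpos hxK)
      rw [GradedRing.proj_apply, DirectSum.decompose_of_mem_same 𝒜 hx] at h0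
      exact hxp (h0 ▸ p.zero_mem)
    · exact h
  intro n
  induction n using Nat.strong_induction_on with
  | _ n IH =>
    intro P hn hP
    rcases P.eq_empty_or_nonempty with rfl | ⟨p, hp⟩
    · exact ⟨0, 1, one_pos, zero_mem _, K.zero_mem, by simp⟩
    · by_cases hinc : ∃ q ∈ P, ∃ p ∈ P, q ≠ p ∧ q ≤ p
      · -- drop a non-maximal prime
        obtain ⟨q, hq, p, hp, hne, hle⟩ := hinc
        obtain ⟨z, m, hm, hz, hzK, hav⟩ := IH (P.erase q).card
          (by rw [← hn]; exact Finset.card_erase_lt_of_mem hq) (P.erase q) rfl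
          (fun r hr => hP r (Finset.mem_of_mem_erase hr))
        refine ⟨z, m, hm, hz, hzK, fun r hr => ?_⟩
        by_cases hrq : r = q
        · subst hrq
          exact fun hzr => hav p (Finset.mem_erase.mpr ⟨hne.symm, hp⟩) (hle hzr)
        · exact hav r (Finset.mem_erase.mpr ⟨hrq, hr⟩)
      · push Not at hinc
        obtain ⟨z, m, hm, hz, hzK, hav⟩ := IH (P.erase p).card
          (by rw [← hn]; exact Finset.card_erase_lt_of_mem hp) (P.erase p) rfl
          (fun r hr => hP r (Finset.mem_of_mem_erase hr))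
        by_cases hzp : z ∈ p
        · -- an element of `K` in all other primes, not in `p`
          let K' : Ideal A := K * ∏ q ∈ P.erase p, q
          have hK' : K'.IsHomogeneous 𝒜 := by
            refine hK.mul ?_
            have : ∀ s : Finset (Ideal A), (∀ q ∈ s, q.IsHomogeneous 𝒜) →
                (∏ q ∈ s, q).IsHomogeneous 𝒜 := by
              intro s
              induction s using Finset.induction_on with
              | empty =>
                intro _
                rw [Finset.prod_empty, Ideal.one_eq_top]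
                exact Ideal.IsHomogeneous.top 𝒜
              | insert a s has ih =>
                intro hs
                rw [Finset.prod_insert has]
                exact (hs a (Finset.mem_insert_self _ _)).mul
                  (ih fun q hq => hs q (Finset.mem_insert_of_mem hq))
            exact this _ fun q hq => (hP q (Finset.mem_of_mem_erase hq)).2.1
          have hpp := (hP p hp).1
          have hnle : ¬ K' ≤ p := by
            intro hle
            rcases hpp.mul_le.mp hle with h | h
            · exact (hP p hp).2.2 h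
            · obtain ⟨q, hq, hqp⟩ := (hpp.prod_le).mp h
              exact hinc q (Finset.mem_of_mem_erase hq) p hp (Finset.ne_of_mem_erase hq) hqp
          obtain ⟨w, k, hw, hwK', hwp⟩ := exists_homogeneous_notMem 𝒜 hK' hnle
          have hwK : w ∈ K := (Ideal.mul_le_left : K' ≤ K) hwK'
          have hwq : ∀ q ∈ P.erase p, w ∈ q := by
            intro q hq
            have h1 : w ∈ ∏ q ∈ P.erase p, q :=
              (Ideal.mul_le_right : K' ≤ ∏ q ∈ P.erase p, q) hwK'
            have h2 : (∏ q ∈ P.erase p, q) ≤ q :=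
              (Ideal.prod_le_inf (f := fun q : Ideal A => q)).trans (Finset.inf_le hq)
            exact h2 h1
          have hk : 0 < k := hpos w k p hw hwK hwp
          refine ⟨z ^ k + w ^ m, k * m, Nat.mul_pos hk hm, ?_, ?_, ?_⟩
          · refine add_mem ?_ ?_
            · have := SetLike.pow_mem_graded k hz
              simpa [smul_eq_mul] using this
            · have := SetLike.pow_mem_graded m hw
              rw [smul_eq_mul, mul_comm] at this
              exact this
          · exact K.add_mem (Ideal.pow_mem_of_mem K hzK k hk) (Ideal.pow_mem_of_mem K hwK m hm)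
          · intro q hq hmem
            by_cases hqp : q = p
            · subst hqp
              have h1 : w ^ m ∈ q := (q.add_mem_iff_right (Ideal.pow_mem_of_mem q hzp k hk)).mp hmem
              exact hwp (hpp.mem_of_pow_mem m h1)
            · have hq' : q ∈ P.erase p := Finset.mem_erase.mpr ⟨hqp, hq⟩
              have h1 : z ^ k ∈ q :=
                (q.add_mem_iff_left (Ideal.pow_mem_of_mem q (hwq q hq') m hm)).mp hmem
              exact hav q hq' ((hP q hq).1.mem_of_pow_mem k h1)
        · refine ⟨z, m, hm, hz, hzK, fun r hr => ?_⟩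
          by_cases hrp : r = p
          · subst hrp; exact hzp
          · exact hav r (Finset.mem_erase.mpr ⟨hrp, hr⟩)

/-- Homogeneous prime avoidance (the primes need not be homogeneous). -/
theorem exists_homogeneous_avoid {K : Ideal A} (hK : K.IsHomogeneous 𝒜) (P : Finset (Ideal A))
    (hP : ∀ p ∈ P, p.IsPrime ∧ ¬ (HomogeneousIdeal.irrelevant 𝒜).toIdeal ≤ p ∧ ¬ K ≤ p) :
    ∃ (z : A) (n : ℕ), 0 < n ∧ z ∈ 𝒜 n ∧ z ∈ K ∧ ∀ p ∈ P, z ∉ p := by
  classical
  let K' : Ideal A := K ⊓ (HomogeneousIdeal.irrelevant 𝒜).toIdeal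
  have hK' : K'.IsHomogeneous 𝒜 := hK.inf (HomogeneousIdeal.irrelevant 𝒜).isHomogeneous
  let P' : Finset (Ideal A) := P.image fun p => (p.homogeneousCore 𝒜).toIdeal
  obtain ⟨z, n, hn, hz, hzK, hav⟩ := exists_avoid_aux 𝒜 hK' inf_le_right P'.card P' rfl (by
    intro q hq
    obtain ⟨p, hp, rfl⟩ := Finset.mem_image.mp hq
    obtain ⟨h1, h2, h3⟩ := hP p hp
    refine ⟨h1.homogeneousCore, (p.homogeneousCore 𝒜).isHomogeneous, ?_⟩
    intro hle
    have hle' : K' ≤ p := hle.trans (Ideal.toIdeal_homogeneousCore_le 𝒜 p)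
    rcases h1.inf_le.mp hle' with h | h
    · exact h3 h
    · exact h2 h)
  refine ⟨z, n, hn, hz, hzK.1, fun p hp hzp => ?_⟩
  exact hav _ (Finset.mem_image_of_mem _ hp)
    (Ideal.mem_homogeneousCore_of_homogeneous_of_mem ⟨n, hz⟩ hzp)

end K88.HomAvoid
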