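import Groth.Prelude.Def_W4c2ratsingkovacsGH
import Groth.Agent.CAlg.K88.HomAvoid
import Mathlib.AlgebraicGeometry.ProjectiveSpectrum.Scheme
import Mathlib.RingTheory.Ideal.KrullsHeightTheorem
import Mathlib.RingTheory.Regular.RegularSequence

/-!
# Geometric height: homogeneous primes of `A` and primes of `A_(f)`

* `exists_homogeneous_prime` : every prime of `A_(f)` is `P_(f)` for a homogeneous prime `P`, `f ∉ P`.
* `le_of_locIdeal_le` : `I_(f) ≤ P_(f) → I ≤ P` (`I` homogeneous, `P` prime, `f ∉ P`).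
* `mem_minimalPrimes_of_locIdeal`.
-/

set_option autoImplicit false

open AlgebraicGeometry HomogeneousLocalization W4c2ratsingkovacs

namespace K88.GeomHeight

variable {R A : Type*} [CommRing R] [CommRing A] [Algebra R A] (𝒜 : ℕ → Submodule R A)
  [GradedRing 𝒜]

theorem mem_locIdeal {f : A} (J : Ideal A) (z : NumDenSameDeg 𝒜 (.powers f)) :
    (HomogeneousLocalization.mk z : Away 𝒜 f) ∈ locIdeal 𝒜 J f ↔ ∃ k : ℕ, f ^ k * z.num.1 ∈ J := by
  unfold locIdeal
  rw [Ideal.mem_comap, HomogeneousLocalization.algebraMap_apply, HomogeneousLocalization.val_mk,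
    Localization.mk_eq_mk']
  rw [IsLocalization.mk'_mem_map_algebraMap_iff (Submonoid.powers f)]
  constructor
  · rintro ⟨_, ⟨k, rfl⟩, h⟩
    exact ⟨k, h⟩
  · rintro ⟨k, h⟩
    exact ⟨f ^ k, ⟨k, rfl⟩, h⟩

theorem exists_homogeneous_prime {f : A} {m : ℕ} (f_deg : f ∈ 𝒜 m) (hm : 0 < m)
    (q : Ideal (Away 𝒜 f)) [hq : q.IsPrime] :
    ∃ P : Ideal A, P.IsPrime ∧ P.IsHomogeneous 𝒜 ∧ f ∉ P ∧ locIdeal 𝒜 P f = q := by
  let q' : PrimeSpectrum (Away 𝒜 f) := ⟨q, hq⟩
  let P := ProjIsoSpecTopComponent.FromSpec.carrier.asIdeal f_deg hm q'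
  have hP : P.IsPrime := ProjIsoSpecTopComponent.FromSpec.carrier.asIdeal.prime f_deg hm q'
  have hf : f ∉ P := ProjIsoSpecTopComponent.FromSpec.carrier.denom_notMem f_deg hm q'
  refine ⟨P, hP, ProjIsoSpecTopComponent.FromSpec.carrier.asIdeal.homogeneous f_deg hm q', hf, ?_⟩
  ext z
  obtain ⟨z, rfl⟩ := HomogeneousLocalization.mk_surjective z
  rw [mem_locIdeal]
  have h1 : z.num.1 ∈ P ↔ HomogeneousLocalization.mk z ∈ q :=
    ProjIsoSpecTopComponent.FromSpec.num_mem_carrier_iff f_deg hm q' z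
  rw [← h1]
  constructor
  · rintro ⟨k, hk⟩
    rcases hP.mem_or_mem hk with h | h
    · exact absurd (hP.mem_of_pow_mem k h) hf
    · exact h
  · intro h
    exact ⟨0, by simpa using h⟩

theorem locIdeal_mono {f : A} {I J : Ideal A} (h : I ≤ J) : locIdeal 𝒜 I f ≤ locIdeal 𝒜 J f :=
  Ideal.comap_mono (Ideal.map_mono h)

theorem isPrime_locIdeal {f : A} (P : Ideal A) [hP : P.IsPrime] (hf : f ∉ P) :
    (locIdeal 𝒜 P f).IsPrime := by
  have : (P.map (algebraMap A (Localization.Away f))).IsPrime :=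
    IsLocalization.isPrime_of_isPrime_disjoint (Submonoid.powers f) _ _ inferInstance
      ((Ideal.disjoint_powers_iff_notMem_of_isPrime _).mpr hf)
  exact Ideal.IsPrime.comap _

theorem le_of_locIdeal_le {f : A} {m : ℕ} (f_deg : f ∈ 𝒜 m) (hm : 0 < m) {I : Ideal A}
    (hI : I.IsHomogeneous 𝒜) {P : Ideal A} [hP : P.IsPrime] (hf : f ∉ P)
    (h : locIdeal 𝒜 I f ≤ locIdeal 𝒜 P f) : I ≤ P := by
  by_contra hle
  obtain ⟨a, i, ha, haI, haP⟩ := K88.HomAvoid.exists_homogeneous_notMem 𝒜 hI hle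
  let z : NumDenSameDeg 𝒜 (.powers f) :=
    ⟨m * i, ⟨a ^ m, by simpa [smul_eq_mul] using SetLike.pow_mem_graded m ha⟩,
      ⟨f ^ i, by simpa [smul_eq_mul, mul_comm] using SetLike.pow_mem_graded i f_deg⟩, ⟨i, rfl⟩⟩
  have hz : (HomogeneousLocalization.mk z : Away 𝒜 f) ∈ locIdeal 𝒜 I f :=
    (mem_locIdeal 𝒜 I z).mpr ⟨0, by
      simpa using Ideal.pow_mem_of_mem I haI m hm⟩
  obtain ⟨k, hk⟩ := (mem_locIdeal 𝒜 P z).mp (h hz)
  rcases hP.mem_or_mem hk with h | h
  · exact hf (hP.mem_of_pow_mem k h)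
  · exact haP (hP.mem_of_pow_mem m h)

/-- A homogeneous prime `P` with `P_(f)` minimal over `I_(f)` is minimal over `I`. -/
theorem mem_minimalPrimes {f : A} {m : ℕ} (f_deg : f ∈ 𝒜 m) (hm : 0 < m) {I : Ideal A}
    (hI : I.IsHomogeneous 𝒜) {P : Ideal A} [hP : P.IsPrime] (hPh : P.IsHomogeneous 𝒜)
    (hf : f ∉ P) (h : locIdeal 𝒜 P f ∈ (locIdeal 𝒜 I f).minimalPrimes) : P ∈ I.minimalPrimes := by
  refine ⟨⟨hP, le_of_locIdeal_le 𝒜 f_deg hm hI hf h.1.2⟩, ?_⟩
  rintro Q ⟨hQ, hIQ⟩ hQP
  have hQ' : (Q.homogeneousCore 𝒜).toIdeal.IsPrime := hQ.homogeneousCore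
  have h1 : I ≤ (Q.homogeneousCore 𝒜).toIdeal := by
    rw [← hI.toIdeal_homogeneousCore_eq_self]
    exact Ideal.homogeneousCore_mono 𝒜 hIQ
  have h2 : (Q.homogeneousCore 𝒜).toIdeal ≤ Q := Ideal.toIdeal_homogeneousCore_le 𝒜 Q
  have hf' : f ∉ (Q.homogeneousCore 𝒜).toIdeal := fun h => hf (hQP (h2 h))
  have h3 : locIdeal 𝒜 P f ≤ locIdeal 𝒜 (Q.homogeneousCore 𝒜).toIdeal f :=
    h.2 ⟨isPrime_locIdeal 𝒜 _ hf', locIdeal_mono 𝒜 h1⟩ (locIdeal_mono 𝒜 (h2.trans hQP))
  exact (le_of_locIdeal_le 𝒜 f_deg hm hPh hf' h3).trans h2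

/-- heights do not increase under `P ↦ P_(f)`. -/
theorem height_locIdeal_le {f : A} {m : ℕ} (f_deg : f ∈ 𝒜 m) (hm : 0 < m)
    {P : Ideal A} [hP : P.IsPrime] (hf : f ∉ P) : (locIdeal 𝒜 P f).height ≤ P.height := by
  have hp := isPrime_locIdeal 𝒜 P hf
  choose φ h1 h2 h3 h4 using fun q : PrimeSpectrum (Away 𝒜 f) =>
    exists_homogeneous_prime 𝒜 f_deg hm q.asIdeal
  let Φ : PrimeSpectrum (Away 𝒜 f) → PrimeSpectrum A := fun q => ⟨φ q, h1 q⟩
  have hΦ : StrictMono Φ := by
    intro q q' hqq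
    have hle : φ q ≤ φ q' := by
      have := h1 q'
      refine le_of_locIdeal_le 𝒜 f_deg hm (h2 q) (h3 q') ?_
      rw [h4, h4]
      exact hqq.le
    refine lt_of_le_of_ne hle ?_
    intro he
    have he' : φ q = φ q' := congrArg PrimeSpectrum.asIdeal he
    have : q = q' := by
      apply PrimeSpectrum.ext
      rw [← h4 q, ← h4 q', he']
    exact hqq.ne this
  let q₀ : PrimeSpectrum (Away 𝒜 f) := ⟨locIdeal 𝒜 P f, hp⟩
  have h5 : φ q₀ ≤ P := le_of_locIdeal_le 𝒜 f_deg hm (h2 q₀) hf (h4 q₀).le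
  have h6 : (locIdeal 𝒜 P f).height = Order.height q₀ := PrimeSpectrum.height_eq_orderHeight q₀
  rw [h6]
  refine (Order.height_le_height_apply_of_strictMono Φ hΦ q₀).trans ?_
  rw [← PrimeSpectrum.height_eq_orderHeight]
  exact Ideal.height_mono h5

/-- **Krull**: the geometric height of an ideal generated by `j` homogeneous elements is `≤ j`. -/
theorem geomHeight_le [IsNoetherianRing A] {f : A} {m : ℕ} (f_deg : f ∈ 𝒜 m) (hm : 0 < m)
    (l : List A) (hl : ∀ z ∈ l, ∃ n, z ∈ 𝒜 n) (hf : f ∉ (Ideal.ofList l).radical) :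
    geomHeight 𝒜 (Ideal.ofList l) f ≤ l.length := by
  classical
  have hI : (Ideal.ofList l).IsHomogeneous 𝒜 := by
    apply Ideal.homogeneous_span
    intro z hz
    exact hl z hz
  have hne : locIdeal 𝒜 (Ideal.ofList l) f ≠ ⊤ := by
    intro htop
    apply hf
    have h1 : (1 : Away 𝒜 f) ∈ locIdeal 𝒜 (Ideal.ofList l) f := by rw [htop]; trivial
    let z : NumDenSameDeg 𝒜 (.powers f) :=
      ⟨0, ⟨1, SetLike.GradedOne.one_mem⟩, ⟨1, SetLike.GradedOne.one_mem⟩, ⟨0, by simp⟩⟩
    have hz : (HomogeneousLocalization.mk z : Away 𝒜 f) = 1 := by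
      apply HomogeneousLocalization.val_injective
      rw [HomogeneousLocalization.val_mk, HomogeneousLocalization.val_one]
      exact Localization.mk_one
    rw [← hz] at h1
    obtain ⟨k, hk⟩ := (mem_locIdeal 𝒜 _ z).mp h1
    exact ⟨k, by simpa [z] using hk⟩
  obtain ⟨⟨q, hq⟩⟩ := Ideal.nonempty_minimalPrimes hne
  have hqp : q.IsPrime := hq.1.1
  obtain ⟨P, hP, hPh, hfP, rfl⟩ := exists_homogeneous_prime 𝒜 f_deg hm q
  have hmin : P ∈ (Ideal.ofList l).minimalPrimes := mem_minimalPrimes 𝒜 f_deg hm hI hPh hfP hq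
  have h1 : P.height ≤ l.length := by
    have h2 : Ideal.ofList l = Ideal.span (l.toFinset : Set A) := by
      rw [Ideal.ofList]
      congr 1
      ext; simp
    rw [h2] at hmin
    refine (Ideal.height_le_card_of_mem_minimalPrimes_span_finset hmin).trans ?_
    exact_mod_cast List.toFinset_card_le l
  calc geomHeight 𝒜 (Ideal.ofList l) f ≤ (locIdeal 𝒜 P f).height := Ideal.height_mono hq.1.2
    _ ≤ P.height := height_locIdeal_le 𝒜 f_deg hm hfP
    _ ≤ l.length := h1

/-- the construction of the sequence. -/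
theorem exists_seq [IsNoetherianRing A] (J : Ideal A) (hJ : J.IsHomogeneous 𝒜) (h : ℕ)
    (hJh : HasUniformGeomHeight 𝒜 J h)
    (P : Finset (Ideal A))
    (hP : ∀ q ∈ P, q.IsPrime ∧ ¬ J ≤ q ∧ ¬ (HomogeneousIdeal.irrelevant 𝒜).toIdeal ≤ q) :
    ∀ k : ℕ, k ≤ h → ∃ zs : List A, zs.length = k ∧
      (∀ z ∈ zs, (∃ n : ℕ, 0 < n ∧ z ∈ 𝒜 n) ∧ z ∈ J ∧ ∀ q ∈ P, z ∉ q) ∧
      ∀ (f : A) (n : ℕ), 0 < n → f ∈ 𝒜 n → ∀ j : ℕ, j ≤ k →
        ∀ q : Ideal (Away 𝒜 f), q.IsPrime → locIdeal 𝒜 (Ideal.ofList (zs.take j)) f ≤ q →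
          (j : ℕ∞) ≤ q.height := by
  classical
  intro k
  induction k with
  | zero =>
    intro _
    refine ⟨[], rfl, by simp, ?_⟩
    intro f n _ _ j hj q _ _
    have : j = 0 := by omega
    subst this
    simp
  | succ k ih =>
    intro hk
    obtain ⟨zs, hlen, hzs, hht⟩ := ih (by omega)
    let I := Ideal.ofList zs
    have hIfin : I.minimalPrimes.Finite := Ideal.finite_minimalPrimes_of_isNoetherianRing A I
    let P' : Finset (Ideal A) := P ∪ (hIfin.toFinset.filter fun q =>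
      ¬ J ≤ q ∧ ¬ (HomogeneousIdeal.irrelevant 𝒜).toIdeal ≤ q)
    obtain ⟨z, n, hn, hz, hzJ, hav⟩ := K88.HomAvoid.exists_homogeneous_avoid 𝒜 hJ P' (by
      intro q hq
      rcases Finset.mem_union.mp hq with hq | hq
      · exact ⟨(hP q hq).1, (hP q hq).2.2, (hP q hq).2.1⟩
      · rw [Finset.mem_filter, Set.Finite.mem_toFinset] at hq
        exact ⟨hq.1.1.1, hq.2.2, hq.2.1⟩)
    refine ⟨zs ++ [z], by simp [hlen], ?_, ?_⟩
    · intro w hw
      rcases List.mem_append.mp hw with hw | hw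
      · exact hzs w hw
      · rw [List.mem_singleton] at hw
        subst hw
        exact ⟨⟨n, hn, hz⟩, hzJ, fun q hq => hav q (Finset.mem_union_left _ hq)⟩
    · intro f m hm hf j hj q hqp hle
      rcases Nat.lt_or_ge k j with hkj | hjk
      · -- `j = k + 1`
        have hj' : j = k + 1 := by omega
        subst hj'
        have htake : (zs ++ [z]).take (k + 1) = zs ++ [z] := by
          rw [List.take_of_length_le]
          simp [hlen]
        rw [htake] at hle
        have hIle : Ideal.ofList zs ≤ Ideal.ofList (zs ++ [z]) := by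
          rw [Ideal.ofList_append]; exact le_sup_left
        have hzmem : z ∈ Ideal.ofList (zs ++ [z]) := by
          apply Ideal.subset_span
          simp
        obtain ⟨q', hq', hq'q⟩ := Ideal.exists_minimalPrimes_le
          ((locIdeal_mono 𝒜 hIle (f := f)).trans hle)
        have hq'p : q'.IsPrime := hq'.1.1
        have h1 : (k : ℕ∞) ≤ q'.height := by
          refine hht f m hm hf k le_rfl q' hq'p ?_
          rw [← hlen, List.take_length]
          exact hq'.1.2
        by_cases hqq : q' = q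
        · subst hqq
          -- `q'` is minimal over `I_(f)` and contains `z`
          obtain ⟨Q, hQ, hQh, hfQ, hQq⟩ := exists_homogeneous_prime 𝒜 hf hm q'
          have hIh : I.IsHomogeneous 𝒜 := by
            apply Ideal.homogeneous_span
            intro w hw
            obtain ⟨⟨n', _, hw'⟩, _⟩ := hzs w hw
            exact ⟨n', hw'⟩
          have hIzh : (Ideal.ofList (zs ++ [z])).IsHomogeneous 𝒜 := by
            apply Ideal.homogeneous_span
            intro w hw
            rcases List.mem_append.mp hw with hw | hw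
            · obtain ⟨⟨n', _, hw'⟩, _⟩ := hzs w hw
              exact ⟨n', hw'⟩
            · rw [List.mem_singleton] at hw
              subst hw
              exact ⟨n, hz⟩
          have hmin : Q ∈ I.minimalPrimes := by
            apply mem_minimalPrimes 𝒜 hf hm hIh hQh hfQ
            rw [hQq]
            exact hq'
          have hzQ : z ∈ Q := by
            have : Ideal.ofList (zs ++ [z]) ≤ Q := by
              apply le_of_locIdeal_le 𝒜 hf hm hIzh hfQ
              rw [hQq]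
              exact hle
            exact this hzmem
          have hirr : ¬ (HomogeneousIdeal.irrelevant 𝒜).toIdeal ≤ Q := fun hle' =>
            hfQ (hle' (HomogeneousIdeal.mem_irrelevant_of_mem 𝒜 hm hf))
          have hJQ : J ≤ Q := by
            by_contra hJQ
            exact hav Q (Finset.mem_union_right _ (by
              rw [Finset.mem_filter, Set.Finite.mem_toFinset]
              exact ⟨hmin, hJQ, hirr⟩)) hzQ
          have hfJ : f ∉ J.radical := fun hfJ =>
            hfQ ((hQ.radical_le_iff.mpr hJQ) hfJ)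
          have h2 := hJh f m hm hf hfJ
          have h3 : (locIdeal 𝒜 J f).height ≤ q'.height := by
            rw [← hQq]
            exact Ideal.height_mono (locIdeal_mono 𝒜 hJQ)
          have h4 : (h : ℕ∞) ≤ q'.height := by
            rw [← h2]; exact h3
          refine le_trans ?_ h4
          exact_mod_cast hk
        · have hlt : q' < q := lt_of_le_of_ne hq'q hqq
          have h2 := Ideal.height_add_one_le_of_lt_of_isPrime hlt
          refine le_trans ?_ h2
          push_cast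
          gcongr
      · have htake : (zs ++ [z]).take j = zs.take j := by
          rw [List.take_append_of_le_length (by omega)]
        rw [htake] at hle
        exact hht f m hm hf j hjk q hqp hle

end K88.GeomHeight
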