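import Groth.Agent.S2000
import Groth.Agent.S2003
import Groth.Agent.S2004
import Mathlib.RingTheory.Localization.BaseChange
import Mathlib.RingTheory.Localization.Module

/-!
# Gluing finite projective modules along a gluing pair

`exists_glue`: `(A → A', f)` a gluing pair, `T = A[1/f]`, `T' = A'[1/f]` (arbitrary models), `W` finite
projective over `T`, `V` finite projective over `A'` and `T' ⊗ W ≃ T' ⊗ V`. Then there is a finite
projective `A`-module with base changes `W` and `V`.
-/

set_option autoImplicit false

open TensorProduct

namespace K88.Glue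

universe u

/-- a localization map out of a module on which the submonoid already acts bijectively is bijective. -/
theorem bijective_of_isLocalizedModule {R M N : Type*} [CommRing R] [AddCommGroup M] [AddCommGroup N]
    [Module R M] [Module R N] (S : Submonoid R) (g : M →ₗ[R] N) [IsLocalizedModule S g]
    (h : ∀ s ∈ S, Function.Bijective fun m : M => s • m) : Function.Bijective g := by
  constructor
  · rw [injective_iff_map_eq_zero]
    intro x hx
    obtain ⟨s, hs⟩ := (IsLocalizedModule.eq_zero_iff S g).mp hx
    have h1 := h s s.2
    apply h1.1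
    change (s : R) • x = (s : R) • (0 : M)
    rw [smul_zero]; exact hs
  · intro y
    obtain ⟨⟨x, s⟩, hs⟩ := IsLocalizedModule.surj S g y
    obtain ⟨x', rfl⟩ := (h s s.2).2 x
    refine ⟨x', ?_⟩
    have h1 := IsLocalizedModule.map_units g s
    have h2 : Function.Injective (fun n : N => (s : R) • n) := by
      have := (Module.End.isUnit_iff _).mp h1
      exact this.1
    apply h2
    simp only at hs ⊢
    rw [← map_smul]
    exact hs.symm

theorem projective_of_ringEquiv {R S M : Type*} [CommRing R] [CommRing S] [AddCommGroup M] [Module R M]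
    [Module S M] (e : R ≃+* S) (h : ∀ (r : R) (m : M), r • m = e r • m) [Module.Projective S M] :
    Module.Projective R M := by
  let _ := RingHomInvPair.of_ringEquiv e.symm
  let _ := RingHomInvPair.symm (e.symm : S →+* R) (e.symm.symm : R →+* S)
  let E : M ≃ₛₗ[(e.symm : S →+* R)] M :=
    { toFun := id
      invFun := id
      left_inv := fun _ => rfl
      right_inv := fun _ => rfl
      map_add' := fun _ _ => rfl
      map_smul' := fun s m => by
        simp only [id_eq]
        rw [h]
        simp }
  exact Module.Projective.of_equiv E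

theorem finite_of_ringEquiv {R S M : Type*} [CommRing R] [CommRing S] [AddCommGroup M] [Module R M]
    [Module S M] (e : R ≃+* S) (h : ∀ (r : R) (m : M), r • m = e r • m) [hfin : Module.Finite S M] :
    Module.Finite R M := by
  obtain ⟨s, hs⟩ := hfin.fg_top
  refine ⟨⟨s, ?_⟩⟩
  rw [eq_top_iff]
  intro m _
  have hm : m ∈ Submodule.span S (s : Set M) := by rw [hs]; trivial
  induction hm using Submodule.span_induction with
  | mem y hy => exact Submodule.subset_span hy
  | zero => exact zero_mem _
  | add y z _ _ hy hz => exact add_mem (hy trivial) (hz trivial)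
  | smul a y _ hy =>
    have : a • y = (e.symm a) • y := by rw [h]; simp
    rw [this]
    exact Submodule.smul_mem _ _ (hy trivial)

variable (A A' T T' : Type u) [CommRing A] [CommRing A'] [CommRing T] [CommRing T']
  [Algebra A A'] [Algebra A T] [Algebra A' T'] [Algebra T T'] [Algebra A T'] [IsScalarTower A A' T']
  [IsScalarTower A T T'] (f : A) [IsLocalization.Away f T]
  [IsLocalization.Away (algebraMap A A' f) T'] (hG : EtGlue.IsGlueingPair A A' f)

include hG in
theorem exists_glue (W : Type u) [AddCommGroup W] [Module T W] [Module.Finite T W]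
    [Module.Projective T W] (V : Type u) [AddCommGroup V] [Module A' V] [Module.Finite A' V]
    [Module.Projective A' V] (φ : T' ⊗[T] W ≃ₗ[T'] T' ⊗[A'] V) :
    ∃ (P : Type u) (_ : AddCommGroup P) (_ : Module A P), Module.Finite A P ∧ Module.Projective A P ∧
      Nonempty (T ⊗[A] P ≃ₗ[T] W) ∧ Nonempty (A' ⊗[A] P ≃ₗ[A'] V) := by
  let _ : Module A W := Module.compHom W (algebraMap A T)
  have : IsScalarTower A T W := IsScalarTower.of_algebraMap_smul fun r x => rfl
  have hfu : IsUnit (algebraMap A T f) := IsLocalization.Away.algebraMap_isUnit f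
  have hf : Function.Bijective fun x : W => f • x := by
    have h1 : Function.Bijective fun x : W => (algebraMap A T f) • x := by
      obtain ⟨u, hu⟩ := hfu
      rw [← hu]
      exact MulAction.bijective u
    convert h1 using 2
    exact (algebraMap_smul T f _).symm
  -- `T' ⊗[A'] V` is the localization of `V`
  have i1 : IsLocalizedModule (Submonoid.powers (algebraMap A A' f)) (TensorProduct.mk A' T' V 1) :=
    (isLocalizedModule_iff_isBaseChange (Submonoid.powers (algebraMap A A' f)) T' _).mpr
      (TensorProduct.isBaseChange A' V T')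
  let e1 : LocalizedModule (Submonoid.powers (algebraMap A A' f)) V ≃ₗ[A'] T' ⊗[A'] V :=
    IsLocalizedModule.linearEquiv (Submonoid.powers (algebraMap A A' f))
      (LocalizedModule.mkLinearMap _ V) (TensorProduct.mk A' T' V 1)
  -- `A' ⊗[A] W ≃ T' ⊗[A] W`
  let g : A' ⊗[A] W →ₗ[A'] T' ⊗[A] W :=
    AlgebraTensorModule.rTensor A W (Algebra.linearMap A' T')
  have i2 : IsLocalizedModule (Submonoid.powers (algebraMap A A' f)) (Algebra.linearMap A' T') :=
    inferInstance
  have i3 : IsLocalizedModule (Submonoid.powers (algebraMap A A' f)) g :=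
    IsLocalizedModule.rTensor A' (Submonoid.powers (algebraMap A A' f)) _
  let mulF : W ≃ₗ[A] W := LinearEquiv.ofBijective (LinearMap.lsmul A W f) hf
  have hbij : Function.Bijective fun x : A' ⊗[A] W => (algebraMap A A' f) • x := by
    have h1 : (fun x : A' ⊗[A] W => (algebraMap A A' f) • x) = (mulF.lTensor A') := by
      ext x
      induction x using TensorProduct.induction_on with
      | zero => simp
      | tmul a w =>
        rw [LinearEquiv.lTensor_tmul, algebraMap_smul, ← TensorProduct.tmul_smul]
        rfl
      | add x y hx hy =>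
        rw [smul_add, hx, hy, map_add]
    rw [h1]
    exact (mulF.lTensor A').bijective
  have hg : Function.Bijective g := by
    apply bijective_of_isLocalizedModule (Submonoid.powers (algebraMap A A' f)) g
    rintro _ ⟨n, rfl⟩
    induction n with
    | zero =>
      simp only [pow_zero, one_smul]
      exact Function.bijective_id
    | succ n ih =>
      have : (fun m : A' ⊗[A] W => (fun x => algebraMap A A' f ^ x) (n + 1) • m) =
          (fun m => (algebraMap A A' f) ^ n • m) ∘ (fun m => algebraMap A A' f • m) := by
        ext m
        simp only [Function.comp_apply, smul_smul, pow_succ]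
      rw [this]
      exact ih.comp hbij
  let e2 : A' ⊗[A] W ≃ₗ[A'] T' ⊗[A] W := LinearEquiv.ofBijective g hg
  have i4 : CompatibleSMul A T T' W := IsLocalization.tensorProduct_compatibleSMul (Submonoid.powers f) T T' W
  let e3 : T' ⊗[T] W ≃ₗ[A'] T' ⊗[A] W := TensorProduct.equivOfCompatibleSMul A T A' T' W
  let α : LocalizedModule (Submonoid.powers (algebraMap A A' f)) V ≃ₗ[A'] A' ⊗[A] W :=
    e1 ≪≫ₗ (φ.symm.restrictScalars A') ≪≫ₗ e3 ≪≫ₗ e2.symm
  obtain ⟨P, iP1, iP2, hP, e', e₁, -⟩ := Groth.Agent.S2000.result A A' f hG V W hf α
  -- conclusions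
  let e₂ : T ⊗[A] P ≃ₗ[T] W := by
    have i5 : IsLocalizedModule (Submonoid.powers f) (TensorProduct.mk A T P 1) :=
      (isLocalizedModule_iff_isBaseChange (Submonoid.powers f) T _).mpr
        (TensorProduct.isBaseChange A P T)
    let e4 : T ⊗[A] P ≃ₗ[A] W := (IsLocalizedModule.linearEquiv (Submonoid.powers f)
      (TensorProduct.mk A T P 1) (LocalizedModule.mkLinearMap _ P)) ≪≫ₗ e₁
    exact LinearEquiv.extendScalarsOfIsLocalization (Submonoid.powers f) T e4
  have h1 : Module.Finite A' (A' ⊗[A] P) := Module.Finite.equiv e'.symm
  have h2 : Module.Projective A' (A' ⊗[A] P) := Module.Projective.of_equiv e'.symm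
  have h3 : Module.Finite A P ∧ Module.Projective A P := by
    refine (Groth.Agent.S2003.result A A' f hG P).mpr ⟨⟨h1, h2⟩, ?_⟩
    let e : Localization.Away f ≃ₐ[A] T := IsLocalization.algEquiv (Submonoid.powers f) _ _
    let _ : Module (Localization.Away f) W := Module.compHom W e.toRingEquiv.toRingHom
    have hW : ∀ (r : Localization.Away f) (w : W), r • w = e.toRingEquiv r • w := fun _ _ => rfl
    have : IsScalarTower A (Localization.Away f) W := IsScalarTower.of_algebraMap_smul fun r x => by
      rw [hW]
      have : e.toRingEquiv (algebraMap A _ r) = algebraMap A T r := e.commutes r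
      rw [this, algebraMap_smul]
    have h3 : Module.Finite (Localization.Away f) W := finite_of_ringEquiv e.toRingEquiv hW
    have h4 : Module.Projective (Localization.Away f) W := projective_of_ringEquiv e.toRingEquiv hW
    let e₃ : W ≃ₗ[Localization.Away f] LocalizedModule (Submonoid.powers f) P :=
      LinearEquiv.extendScalarsOfIsLocalization (Submonoid.powers f) (Localization.Away f) e₁.symm
    exact ⟨Module.Finite.equiv e₃, Module.Projective.of_equiv e₃⟩
  exact ⟨P, iP1, iP2, h3.1, h3.2, ⟨e₂⟩, ⟨e'⟩⟩

end K88.Glue
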