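import Groth.Agent.CAlg.K88.Glue
import Groth.Agent.S17853
import Mathlib.RingTheory.LaurentSeries
import Mathlib.Algebra.Polynomial.Laurent
import Mathlib.RingTheory.PowerSeries.Trunc

/-!
# Gluing over `R[t] → R[[t]]`, and modules which become isomorphic over `R((t))`
-/

set_option autoImplicit false

open TensorProduct Polynomial LaurentPolynomial

namespace K88.GlueLaurent

universe u

variable (R : Type u) [CommRing R]

theorem isGlueingPair : EtGlue.IsGlueingPair R[X] (PowerSeries R) (X : R[X]) := by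
  have halg : ∀ p : R[X], algebraMap R[X] (PowerSeries R) p = (p : PowerSeries R) := fun p => by
    rw [PowerSeries.algebraMap_apply']
    simp
  have hX : algebraMap R[X] (PowerSeries R) X = PowerSeries.X := by rw [halg, Polynomial.coe_X]
  have hreg : ∀ (n : ℕ) (x : PowerSeries R), PowerSeries.X ^ n * x = 0 → x = 0 := by
    intro n x hx
    ext k
    have := congrArg (PowerSeries.coeff (n + k)) hx
    rw [PowerSeries.coeff_X_pow_mul', map_zero] at this
    simpa using this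
  refine (Groth.Agent.S2004.result R[X] (PowerSeries R) X ?_).mpr ⟨?_, ?_⟩
  · intro n _
    have hmap : Ideal.map (algebraMap R[X] (PowerSeries R)) (Ideal.span {(X : R[X]) ^ n}) =
        Ideal.span {(PowerSeries.X : PowerSeries R) ^ n} := by
      rw [Ideal.map_span, Set.image_singleton, map_pow, hX]
    constructor
    · rw [injective_iff_map_eq_zero]
      intro x hx
      obtain ⟨p, rfl⟩ := Ideal.Quotient.mk_surjective x
      rw [Ideal.quotientMap_mk, Ideal.Quotient.eq_zero_iff_mem, hmap, Ideal.mem_span_singleton,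
        halg, PowerSeries.X_pow_dvd_iff] at hx
      rw [Ideal.Quotient.eq_zero_iff_mem, Ideal.mem_span_singleton, Polynomial.X_pow_dvd_iff]
      intro d hd
      have := hx d hd
      rwa [Polynomial.coeff_coe] at this
    · intro y
      obtain ⟨y, rfl⟩ := Ideal.Quotient.mk_surjective y
      refine ⟨Ideal.Quotient.mk _ (PowerSeries.trunc n y), ?_⟩
      rw [Ideal.quotientMap_mk, Ideal.Quotient.eq, hmap, Ideal.mem_span_singleton, halg,
        PowerSeries.X_pow_dvd_iff]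
      intro d hd
      rw [map_sub, Polynomial.coeff_coe, PowerSeries.coeff_trunc, if_pos hd, sub_self]
  · rintro x ⟨n, hn⟩ -
    have h1 : (X : R[X]) ^ n * x = X ^ n * 0 := by rw [hn, mul_zero]
    exact (Polynomial.isRegular_X_pow n).left h1
  · rintro x ⟨n, hn⟩
    rw [hX] at hn
    refine ⟨0, ⟨0, by simp⟩, ?_⟩
    rw [map_zero, hreg n x hn]

variable {R}

theorem algebraMap_X : algebraMap R[X] (PowerSeries R) X = PowerSeries.X := by
  rw [PowerSeries.algebraMap_apply']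
  simp

/-- gluing over `R[t,t⁻¹]` and `R[[t]]`. -/
theorem exists_glue (T' : Type u) [CommRing T'] [Algebra R[T;T⁻¹] T'] [Algebra (PowerSeries R) T']
    [Algebra R[X] T'] [IsScalarTower R[X] R[T;T⁻¹] T'] [IsScalarTower R[X] (PowerSeries R) T']
    [IsLocalization.Away (PowerSeries.X : PowerSeries R) T']
    (W : Type u) [AddCommGroup W] [Module R[T;T⁻¹] W] [Module.Finite R[T;T⁻¹] W]
    [Module.Projective R[T;T⁻¹] W] (V : Type u) [AddCommGroup V] [Module (PowerSeries R) V]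
    [Module.Finite (PowerSeries R) V] [Module.Projective (PowerSeries R) V]
    (φ : T' ⊗[R[T;T⁻¹]] W ≃ₗ[T'] T' ⊗[PowerSeries R] V) :
    ∃ (P : Type u) (_ : AddCommGroup P) (_ : Module R[X] P), Module.Finite R[X] P ∧
      Module.Projective R[X] P ∧ Nonempty (R[T;T⁻¹] ⊗[R[X]] P ≃ₗ[R[T;T⁻¹]] W) ∧
      Nonempty (PowerSeries R ⊗[R[X]] P ≃ₗ[PowerSeries R] V) := by
  have : IsLocalization.Away (algebraMap R[X] (PowerSeries R) X) T' := by
    rw [algebraMap_X]; infer_instance
  exact K88.Glue.exists_glue R[X] (PowerSeries R) R[T;T⁻¹] T' X (isGlueingPair R) W V φ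

section Retract

/-- modules which become isomorphic over an algebra with a retraction are isomorphic. -/
theorem nonempty_of_retraction {R S : Type*} [CommRing R] [CommRing S] [Algebra R S] (ρ : S →+* R)
    (hρ : ∀ r, ρ (algebraMap R S r) = r) {M N : Type*} [AddCommGroup M] [AddCommGroup N] [Module R M]
    [Module R N] (e : S ⊗[R] M ≃ₗ[S] S ⊗[R] N) : Nonempty (M ≃ₗ[R] N) := by
  let _ : Algebra S R := ρ.toAlgebra
  have : IsScalarTower R S R := IsScalarTower.of_algebraMap_eq fun r => (hρ r).symm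
  let e1 : R ⊗[S] (S ⊗[R] M) ≃ₗ[R] R ⊗[S] (S ⊗[R] N) := e.baseChange (A := R)
  let e2 : R ⊗[S] (S ⊗[R] M) ≃ₗ[R] R ⊗[R] M := AlgebraTensorModule.cancelBaseChange R S R R M
  let e3 : R ⊗[S] (S ⊗[R] N) ≃ₗ[R] R ⊗[R] N := AlgebraTensorModule.cancelBaseChange R S R R N
  exact ⟨(TensorProduct.lid R M).symm ≪≫ₗ e2.symm ≪≫ₗ e1 ≪≫ₗ e3 ≪≫ₗ TensorProduct.lid R N⟩

theorem nonempty_of_extended {R A S : Type*} [CommRing R] [CommRing A] [CommRing S] [Algebra R A]
    [Algebra A S] [Algebra R S] [IsScalarTower R A S] (ρ : S →+* R)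
    (hρ : ∀ r, ρ (algebraMap R S r) = r) {P P₀ M : Type*} [AddCommGroup M] [AddCommGroup P]
    [AddCommGroup P₀] [Module R M] [Module A P] [Module R P₀] (e : P ≃ₗ[A] A ⊗[R] P₀)
    (e' : S ⊗[A] P ≃ₗ[S] S ⊗[R] M) : Nonempty (M ≃ₗ[R] P₀) := by
  apply nonempty_of_retraction ρ hρ
  let e1 : S ⊗[A] P ≃ₗ[S] S ⊗[A] (A ⊗[R] P₀) := e.baseChange (A := S)
  let e2 : S ⊗[A] (A ⊗[R] P₀) ≃ₗ[S] S ⊗[R] P₀ := AlgebraTensorModule.cancelBaseChange R A S S P₀
  exact e'.symm ≪≫ₗ e1 ≪≫ₗ e2

end Retract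

instance : IsScalarTower R R[X] R[T;T⁻¹] := IsScalarTower.of_algebraMap_eq fun r => by
  rw [LaurentPolynomial.algebraMap_eq_toLaurent, Polynomial.algebraMap_eq, Polynomial.toLaurent_C]
  rfl

/-- a finite projective `R[t]`-module which becomes extended from `R` over `R[t,t⁻¹]` is extended. -/
theorem exists_extended (P : Type u) [AddCommGroup P] [Module R[X] P] [Module.Finite R[X] P]
    [Module.Projective R[X] P] (M : Type u) [AddCommGroup M] [Module R M] [Module.Finite R M]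
    [Module.Projective R M] (e : R[T;T⁻¹] ⊗[R[X]] P ≃ₗ[R[T;T⁻¹]] R[T;T⁻¹] ⊗[R] M) :
    ∃ (P₀ : Type u) (_ : AddCommGroup P₀) (_ : Module R P₀), Nonempty (P ≃ₗ[R[X]] R[X] ⊗[R] P₀) := by
  apply (Groth.Agent.S17853.result R P).mpr
  refine ⟨R[X] ⊗[R] M, inferInstance, inferInstance, inferInstance, inferInstance, ?_⟩
  let e1 : R[T;T⁻¹] ⊗[R[X]] (R[X] ⊗[R] M) ≃ₗ[R[T;T⁻¹]] R[T;T⁻¹] ⊗[R] M :=
    AlgebraTensorModule.cancelBaseChange R R[X] R[T;T⁻¹] R[T;T⁻¹] M
  let e2 : R[T;T⁻¹] ⊗[R] M ≃ₗ[R] R[T;T⁻¹] ⊗[R] M :=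
    (LaurentPolynomial.invert (R := R)).toLinearEquiv.rTensor M
  have he2 : ∀ (a : R[T;T⁻¹]) (x : R[T;T⁻¹] ⊗[R] M), e2 (a • x) = LaurentPolynomial.invert a • e2 x := by
    intro a x
    induction x using TensorProduct.induction_on with
    | zero => simp
    | tmul b m =>
      rw [TensorProduct.smul_tmul']
      change (LaurentPolynomial.invert (a * b)) ⊗ₜ[R] m = _ • ((LaurentPolynomial.invert b) ⊗ₜ[R] m)
      rw [TensorProduct.smul_tmul', map_mul]
      rfl
    | add x y hx hy => rw [smul_add, map_add, hx, hy, map_add, smul_add]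
  let E : (R[T;T⁻¹] ⊗[R[X]] P) →ₛₗ[(LaurentPolynomial.invert (R := R)).toRingEquiv.toRingHom]
      (R[T;T⁻¹] ⊗[R[X]] (R[X] ⊗[R] M)) :=
    { toFun := fun x => e1.symm (e2 (e x))
      map_add' := fun x y => by rw [map_add, map_add, map_add]
      map_smul' := fun a x => by
        rw [map_smul, he2, map_smul]
        rfl }
  refine ⟨E, ?_⟩
  exact (e1.symm.bijective.comp e2.bijective).comp e.bijective

theorem nonempty_linearEquiv (T' : Type u) [CommRing T'] [Algebra R T'] [Algebra R[T;T⁻¹] T']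
    [Algebra (PowerSeries R) T'] [Algebra R[X] T'] [IsScalarTower R[X] R[T;T⁻¹] T']
    [IsScalarTower R[X] (PowerSeries R) T'] [IsScalarTower R R[T;T⁻¹] T']
    [IsScalarTower R (PowerSeries R) T'] [IsLocalization.Away (PowerSeries.X : PowerSeries R) T']
    (M N : Type u) [AddCommGroup M] [Module R M] [Module.Finite R M] [Module.Projective R M]
    [AddCommGroup N] [Module R N] [Module.Finite R N] [Module.Projective R N]
    (e : T' ⊗[R] M ≃ₗ[T'] T' ⊗[R] N) : Nonempty (M ≃ₗ[R] N) := by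
  obtain ⟨P, _, _, _, _, ⟨e₂⟩, ⟨e'⟩⟩ := exists_glue T' (R[T;T⁻¹] ⊗[R] M) (PowerSeries R ⊗[R] N)
    (AlgebraTensorModule.cancelBaseChange R R[T;T⁻¹] T' T' M ≪≫ₗ e ≪≫ₗ
      (AlgebraTensorModule.cancelBaseChange R (PowerSeries R) T' T' N).symm)
  obtain ⟨P₀, _, _, ⟨e₀⟩⟩ := exists_extended P M e₂
  have : IsScalarTower R R[X] (PowerSeries R) := IsScalarTower.of_algebraMap_eq fun r => by
    rw [PowerSeries.algebraMap_apply', Polynomial.algebraMap_eq]
    simp
  obtain ⟨e3⟩ := nonempty_of_extended (LaurentPolynomial.eval₂ (RingHom.id R) (1 : Rˣ))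
    (fun r => by
      change LaurentPolynomial.eval₂ (RingHom.id R) (1 : Rˣ) (LaurentPolynomial.C r) = r
      simp) e₀ e₂
  obtain ⟨e4⟩ := nonempty_of_extended (PowerSeries.constantCoeff (R := R)) (fun r => by simp) e₀ e'
  exact ⟨e3 ≪≫ₗ e4.symm⟩

end K88.GlueLaurent
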