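import Mathlib.RingTheory.Localization.Away.Basic
import Mathlib.RingTheory.Ideal.Quotient.Operations

/-!
# Glueing pairs `(φ : A → A', t)`

`A/t^m → A'/t^m` bijective for every `m` and `φ` bijective on `t`-power torsion. Then
`A = A' ×_{A'[1/t]} A[1/t]`.
-/

set_option autoImplicit false

namespace K88.GluePair

variable {A A' : Type*} [CommRing A] [CommRing A'] (φ : A →+* A') (t : A)

/-- `A → A' × A[1/t]` is injective. -/
theorem eq_zero (htor : ∀ a' : A', (∃ m : ℕ, φ t ^ m * a' = 0) →
      ∃! a : A, (∃ m : ℕ, t ^ m * a = 0) ∧ φ a = a')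
    (a : A) (h1 : φ a = 0) (h2 : algebraMap A (Localization.Away t) a = 0) : a = 0 := by
  obtain ⟨⟨_, m, rfl⟩, hm⟩ := (IsLocalization.map_eq_zero_iff (Submonoid.powers t)
    (Localization.Away t) a).mp h2
  obtain ⟨a₀, -, huniq⟩ := htor 0 ⟨0, by simp⟩
  rw [huniq a ⟨⟨m, hm⟩, h1⟩, huniq 0 ⟨⟨0, by simp⟩, map_zero φ⟩]

/-- the fibre product property, surjectivity part. -/
theorem exists_glue
    (hq : ∀ m : ℕ, Function.Injective
      (Ideal.quotientMap (Ideal.map φ (Ideal.span {t} ^ m)) φ Ideal.le_comap_map))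
    (htor : ∀ a' : A', (∃ m : ℕ, φ t ^ m * a' = 0) →
      ∃! a : A, (∃ m : ℕ, t ^ m * a = 0) ∧ φ a = a')
    (a' : A') (b : Localization.Away t)
    (h : algebraMap A' (Localization.Away (φ t)) a' = Localization.awayMap φ t b) :
    ∃ a : A, φ a = a' ∧ algebraMap A (Localization.Away t) a = b := by
  obtain ⟨⟨x, ⟨_, n, rfl⟩⟩, hx⟩ := IsLocalization.surj (Submonoid.powers t) b
  -- `b * t^n = x`
  have hx' : b * algebraMap A (Localization.Away t) (t ^ n) =
    algebraMap A (Localization.Away t) x := hx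
  have h1 : algebraMap A' (Localization.Away (φ t)) (a' * φ (t ^ n)) =
      algebraMap A' (Localization.Away (φ t)) (φ x) := by
    have h2 : ∀ y : A, Localization.awayMap φ t (algebraMap A (Localization.Away t) y) =
        algebraMap A' (Localization.Away (φ t)) (φ y) := fun y => by
      simp [Localization.awayMap, IsLocalization.Away.map]
    rw [map_mul, h, ← h2, ← h2, ← hx', map_mul]
  obtain ⟨⟨_, N, rfl⟩, hN⟩ := (IsLocalization.eq_iff_exists (Submonoid.powers (φ t))
    (Localization.Away (φ t))).mp h1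
  have hN' : φ t ^ N * (a' * φ (t ^ n)) = φ t ^ N * φ x := hN
  -- `t^N x ∈ t^(N+n) A`
  have h3 : t ^ N * x ∈ Ideal.span {t} ^ (N + n) := by
    rw [← Ideal.Quotient.eq_zero_iff_mem]
    apply hq (N + n)
    rw [map_zero, Ideal.quotientMap_mk, Ideal.Quotient.eq_zero_iff_mem, map_mul, map_pow, ← hN']
    have h4 : φ t ^ N * (a' * φ (t ^ n)) = a' * φ (t ^ (N + n)) := by
      rw [map_pow, map_pow]; ring
    rw [h4]
    apply Ideal.mul_mem_left
    apply Ideal.mem_map_of_mem
    exact Ideal.pow_mem_pow (Ideal.mem_span_singleton_self t) _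
  rw [Ideal.span_singleton_pow, Ideal.mem_span_singleton] at h3
  obtain ⟨y, hy⟩ := h3
  obtain ⟨z, ⟨⟨m, hm⟩, hz⟩, -⟩ := htor (a' - φ y) ⟨N + n, by
    have h5 : φ t ^ (N + n) * φ y = φ t ^ N * φ x := by
      rw [← map_pow, ← map_mul, ← hy, map_mul, map_pow]
    have h6 : φ t ^ (N + n) * a' = φ t ^ N * φ x := by
      rw [← hN', map_pow]; ring
    rw [mul_sub, h5, h6, sub_self]⟩
  refine ⟨y + z, by rw [map_add, hz]; ring, ?_⟩
  have hz0 : algebraMap A (Localization.Away t) z = 0 :=
    (IsLocalization.map_eq_zero_iff (Submonoid.powers t) (Localization.Away t) z).mpr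
      ⟨⟨_, m, rfl⟩, hm⟩
  rw [map_add, hz0, add_zero]
  -- cancel the unit `t^(N+n)`
  have hu : IsUnit (algebraMap A (Localization.Away t) (t ^ (N + n))) :=
    IsLocalization.map_units (Localization.Away t) (⟨_, N + n, rfl⟩ : Submonoid.powers t)
  apply hu.mul_left_cancel
  rw [← map_mul, ← hy, map_mul, ← hx', pow_add, map_mul]
  ring

/-- ring maps into `A` from a compatible pair of ring maps. -/
theorem exists_ringHom
    (hq : ∀ m : ℕ, Function.Injective
      (Ideal.quotientMap (Ideal.map φ (Ideal.span {t} ^ m)) φ Ideal.le_comap_map))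
    (htor : ∀ a' : A', (∃ m : ℕ, φ t ^ m * a' = 0) →
      ∃! a : A, (∃ m : ℕ, t ^ m * a = 0) ∧ φ a = a')
    {G : Type*} [CommRing G] (g' : G →+* A') (gt : G →+* Localization.Away t)
    (h : (algebraMap A' (Localization.Away (φ t))).comp g' = (Localization.awayMap φ t).comp gt) :
    ∃ g : G →+* A, φ.comp g = g' ∧ (algebraMap A (Localization.Away t)).comp g = gt := by
  have hex : ∀ x : G, ∃ a : A, φ a = g' x ∧ algebraMap A (Localization.Away t) a = gt x :=
    fun x => exists_glue φ t hq htor (g' x) (gt x) (congrArg (fun k => k x) h)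
  choose g hg1 hg2 using hex
  have huniq : ∀ a b : A, φ a = φ b →
      algebraMap A (Localization.Away t) a = algebraMap A (Localization.Away t) b → a = b := by
    intro a b h1 h2
    rw [← sub_eq_zero]
    apply eq_zero φ t htor
    · rw [map_sub, h1, sub_self]
    · rw [map_sub, h2, sub_self]
  refine ⟨{ toFun := g, map_one' := ?_, map_mul' := ?_, map_zero' := ?_, map_add' := ?_ }, ?_, ?_⟩
  · apply huniq
    · rw [hg1, map_one, map_one]
    · rw [hg2, map_one, map_one]
  · intro x y
    apply huniq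
    · rw [hg1, map_mul, map_mul, hg1, hg1]
    · rw [hg2, map_mul, map_mul, hg2, hg2]
  · apply huniq
    · change φ (g 0) = φ 0
      rw [hg1, map_zero, map_zero]
    · change algebraMap A (Localization.Away t) (g 0) = algebraMap A (Localization.Away t) 0
      rw [hg2, map_zero, map_zero]
  · intro x y
    apply huniq
    · change φ (g (x + y)) = φ (g x + g y)
      rw [hg1, map_add, map_add, hg1, hg1]
    · change algebraMap A (Localization.Away t) (g (x + y)) =
        algebraMap A (Localization.Away t) (g x + g y)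
      rw [hg2, map_add, map_add, hg2, hg2]
  · ext x; exact hg1 x
  · ext x; exact hg2 x

/-- Every prime of `A` containing `t` is the contraction of a prime of `A'`. -/
theorem exists_comap_eq
    (hq : Function.Bijective (Ideal.quotientMap (Ideal.map φ (Ideal.span {t})) φ Ideal.le_comap_map))
    (q : Ideal A) (hqp : q.IsPrime) (ht : t ∈ q) :
    ∃ q' : Ideal A', q'.IsPrime ∧ q'.comap φ = q := by
  let e : A ⧸ Ideal.span {t} ≃+* A' ⧸ Ideal.map φ (Ideal.span {t}) :=
    RingEquiv.ofBijective _ hq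
  have hle : Ideal.span {t} ≤ q := by
    rw [Ideal.span_singleton_le_iff_mem]; exact ht
  let Q : Ideal (A ⧸ Ideal.span {t}) := q.map (Ideal.Quotient.mk _)
  have hQ : Q.IsPrime := by
    apply Ideal.map_isPrime_of_surjective Ideal.Quotient.mk_surjective
    rwa [Ideal.mk_ker]
  have hQc : Q.comap (Ideal.Quotient.mk (Ideal.span {t})) = q := by
    change (q.map (Ideal.Quotient.mk _)).comap _ = q
    rw [Ideal.comap_map_of_surjective _ Ideal.Quotient.mk_surjective, ← RingHom.ker_eq_comap_bot,
      Ideal.mk_ker, sup_eq_left]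
    exact hle
  let es : (A' ⧸ Ideal.map φ (Ideal.span {t})) →+* (A ⧸ Ideal.span {t}) := e.symm.toRingHom
  have this : es.comp ((Ideal.Quotient.mk (Ideal.map φ (Ideal.span {t}))).comp φ) =
      Ideal.Quotient.mk (Ideal.span {t}) := by
    ext x
    change e.symm (Ideal.Quotient.mk _ (φ x)) = _
    rw [RingEquiv.symm_apply_eq]
    change _ = Ideal.quotientMap _ φ Ideal.le_comap_map (Ideal.Quotient.mk _ x)
    rw [Ideal.quotientMap_mk]
  refine ⟨(Q.comap es).comap (Ideal.Quotient.mk (Ideal.map φ (Ideal.span {t}))),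
    inferInstance, ?_⟩
  rw [Ideal.comap_comap, Ideal.comap_comap, this, hQc]

end K88.GluePair
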