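import Groth.Agent.CAlg.K88.Taylor
import Mathlib.RingTheory.Smooth.Basic
import Mathlib.RingTheory.FinitePresentation
import Mathlib.RingTheory.Localization.Ideal
import Mathlib.RingTheory.Localization.Away.Basic

/-!
# Equations of an algebra which is smooth after inverting `t`

`exists_data`: `J` an ideal of `A[x_1, …, x_n]` such that `(A[x]/J)[1/t]` is formally smooth and finitely
presented over `A`. There are `f_1, …, f_q ∈ J` generating `J` up to powers of `t` and a relation
`t^h f = (D K + M) f` with `D` the Jacobian matrix and `M` with entries in `(f)`.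
-/

set_option autoImplicit false

open MvPolynomial

namespace K88.SmoothData

universe u

section Denominators

variable {P Pt : Type*} [CommRing P] [CommRing Pt] [Algebra P Pt] (t : P)
  [IsLocalization.Away t Pt]

/-- common denominators in an ideal -/
theorem exists_common {ι : Type*} [Finite ι] (I : Ideal P) (z : ι → Pt)
    (hz : ∀ i, z i ∈ I.map (algebraMap P Pt)) :
    ∃ (H : ℕ) (y : ι → P), (∀ i, y i ∈ I) ∧ ∀ i, algebraMap P Pt (t ^ H) * z i =
      algebraMap P Pt (y i) := by
  classical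
  cases nonempty_fintype ι
  have h1 : ∀ i, ∃ (k : ℕ) (y : P), y ∈ I ∧ algebraMap P Pt (t ^ k) * z i = algebraMap P Pt y := by
    intro i
    obtain ⟨⟨⟨y, hy⟩, ⟨_, k, rfl⟩⟩, h⟩ :=
      (IsLocalization.mem_map_algebraMap_iff (Submonoid.powers t) Pt).mp (hz i)
    exact ⟨k, y, hy, by rw [mul_comm]; exact h⟩
  choose k y hy h using h1
  refine ⟨Finset.univ.sup k, fun i => t ^ (Finset.univ.sup k - k i) * y i,
    fun i => I.mul_mem_left _ (hy i), fun i => ?_⟩
  have hle : k i ≤ Finset.univ.sup k := Finset.le_sup (Finset.mem_univ i)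
  rw [map_mul, ← h i, ← mul_assoc, ← map_mul, ← pow_add, Nat.sub_add_cancel hle]

/-- common killing exponent -/
theorem exists_common_eq {ι : Type*} [Finite ι] (x y : ι → P)
    (h : ∀ i, algebraMap P Pt (x i) = algebraMap P Pt (y i)) :
    ∃ H : ℕ, ∀ i, t ^ H * x i = t ^ H * y i := by
  classical
  cases nonempty_fintype ι
  have h1 : ∀ i, ∃ k : ℕ, t ^ k * x i = t ^ k * y i := by
    intro i
    obtain ⟨⟨_, k, rfl⟩, hk⟩ := (IsLocalization.eq_iff_exists (Submonoid.powers t) Pt).mp (h i)
    exact ⟨k, hk⟩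
  choose k hk using h1
  refine ⟨Finset.univ.sup k, fun i => ?_⟩
  have hle : k i ≤ Finset.univ.sup k := Finset.le_sup (Finset.mem_univ i)
  have : t ^ Finset.univ.sup k = t ^ (Finset.univ.sup k - k i) * t ^ k i := by
    rw [← pow_add, Nat.sub_add_cancel hle]
  rw [this, mul_assoc, mul_assoc, hk i]

end Denominators

variable {A : Type u} [CommRing A]

theorem exists_data {n : ℕ} (t : A) (J : Ideal (MvPolynomial (Fin n) A))
    {Pt : Type u} [CommRing Pt] [Algebra A Pt] [Algebra (MvPolynomial (Fin n) A) Pt]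
    [IsScalarTower A (MvPolynomial (Fin n) A) Pt]
    [IsLocalization.Away (C t : MvPolynomial (Fin n) A) Pt]
    {Bt : Type u} [CommRing Bt] [Algebra A Bt] [Algebra.FormallySmooth A Bt]
    [Algebra.FinitePresentation A Bt] (π : Pt →ₐ[A] Bt) (hπ : Function.Surjective π)
    (hker : RingHom.ker π.toRingHom = J.map (algebraMap (MvPolynomial (Fin n) A) Pt)) :
    ∃ (q : ℕ) (f : Fin q → MvPolynomial (Fin n) A) (h : ℕ)
      (K : Fin n → Fin q → MvPolynomial (Fin n) A) (M : Fin q → Fin q → MvPolynomial (Fin n) A),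
      (∀ i, f i ∈ J) ∧ (∀ g ∈ J, ∃ k : ℕ, C (t ^ k) * g ∈ Ideal.span (Set.range f)) ∧
      (∀ i j, M i j ∈ Ideal.span (Set.range f)) ∧
      ∀ i, C (t ^ h) * f i = ∑ j, (∑ k, pderiv k (f i) * K k j + M i j) * f j := by
  classical
  set c : MvPolynomial (Fin n) A →+* Pt := algebraMap (MvPolynomial (Fin n) A) Pt with hc
  set Jt : Ideal Pt := J.map c with hJt
  -- finite generation
  have hfpP : Algebra.FinitePresentation (MvPolynomial (Fin n) A) Pt :=
    IsLocalization.Away.finitePresentation (C t : MvPolynomial (Fin n) A)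
  have hfpA : Algebra.FinitePresentation A Pt :=
    Algebra.FinitePresentation.trans A (MvPolynomial (Fin n) A) Pt
  have hfg : Jt.FG := by
    rw [← hker]
    exact Algebra.FinitePresentation.ker_fG_of_surjective π hπ
  obtain ⟨s', hs', hspan⟩ := (Submodule.fg_span_iff_fg_span_finset_subset _).mp hfg
  obtain ⟨q, g, hg⟩ : ∃ (q : ℕ) (g : Fin q → Pt), Set.range g = (s' : Set Pt) := by
    refine ⟨s'.card, fun i => (s'.equivFin.symm i : Pt), ?_⟩
    ext x
    constructor
    · rintro ⟨i, rfl⟩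
      exact (s'.equivFin.symm i).2
    · intro hx
      exact ⟨s'.equivFin ⟨x, hx⟩, by simp⟩
  have hgJ : ∀ i, ∃ f ∈ J, c f = g i := by
    intro i
    have : g i ∈ (s' : Set Pt) := by rw [← hg]; exact ⟨i, rfl⟩
    exact hs' this
  choose f hfJ hfg' using hgJ
  have hJf : Jt = (Ideal.span (Set.range f)).map c := by
    rw [Ideal.map_span, ← Set.range_comp]
    have : (c ∘ f) = g := by ext i; exact hfg' i
    rw [this, hg]
    exact hspan
  have hJf' : Jt = Ideal.span (Set.range fun i => c (f i)) := by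
    rw [hJf, Ideal.map_span, ← Set.range_comp]
    rfl
  -- the section modulo `Jt²`
  let gq : (Pt ⧸ Jt ^ 2) →ₐ[A] Bt := Ideal.Quotient.liftₐ (Jt ^ 2) π (by
    intro x hx
    have h1 : x ∈ Jt := Ideal.pow_le_self two_ne_zero hx
    rw [← hker] at h1
    exact h1)
  have hgq : ∀ x, gq (Ideal.Quotient.mk _ x) = π x := fun x => rfl
  have hgqs : Function.Surjective gq := fun b => by
    obtain ⟨x, rfl⟩ := hπ b
    exact ⟨Ideal.Quotient.mk _ x, rfl⟩
  have hnil : IsNilpotent (RingHom.ker (gq : (Pt ⧸ Jt ^ 2) →+* Bt)) := by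
    refine ⟨2, ?_⟩
    have h1 : RingHom.ker (gq : (Pt ⧸ Jt ^ 2) →+* Bt) ≤ Jt.map (Ideal.Quotient.mk (Jt ^ 2)) := by
      intro x hx
      obtain ⟨x, rfl⟩ := Ideal.Quotient.mk_surjective x
      have h2 : π x = 0 := hx
      have h3 : x ∈ RingHom.ker π.toRingHom := h2
      rw [hker] at h3
      exact Ideal.mem_map_of_mem _ h3
    have h2 : (RingHom.ker (gq : (Pt ⧸ Jt ^ 2) →+* Bt)) ^ 2 ≤ ⊥ := by
      refine (Ideal.pow_right_mono h1 2).trans ?_
      have h3 : (Jt.map (Ideal.Quotient.mk (Jt ^ 2))) ^ 2 = (Jt ^ 2).map (Ideal.Quotient.mk (Jt ^ 2)) :=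
        (Ideal.map_pow _ _ _).symm
      rw [h3, Ideal.map_quotient_self]
    exact le_bot_iff.mp h2
  let τ : Bt →ₐ[A] (Pt ⧸ Jt ^ 2) :=
    Algebra.FormallySmooth.liftOfSurjective (AlgHom.id A Bt) gq hgqs hnil
  have hτ : ∀ b, gq (τ b) = b := fun b =>
    Algebra.FormallySmooth.liftOfSurjective_apply (AlgHom.id A Bt) gq hgqs hnil b
  choose e he using fun k : Fin n =>
    Ideal.Quotient.mk_surjective (I := Jt ^ 2) (τ (π (c (X k))))
  have hd : ∀ k, e k - c (X k) ∈ Jt := by
    intro k
    have h1 : π (e k) = π (c (X k)) := by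
      rw [← hgq, he k, hτ]
    have h2 : e k - c (X k) ∈ RingHom.ker π.toRingHom := by
      rw [RingHom.mem_ker]
      change π (e k - c (X k)) = 0
      rw [map_sub, h1, sub_self]
    rw [hker] at h2
    exact h2
  -- polynomials in `J` evaluated at `e`
  have heJ : ∀ F ∈ J, aeval e F ∈ Jt ^ 2 := by
    intro F hF
    rw [← Ideal.Quotient.eq_zero_iff_mem]
    have h1 : ∀ G : MvPolynomial (Fin n) A, Ideal.Quotient.mk (Jt ^ 2) (aeval e G) =
        τ (π (c G)) := by
      intro G
      have h2 : (Ideal.Quotient.mkₐ A (Jt ^ 2)).comp (aeval e) =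
          (τ.comp π).comp (IsScalarTower.toAlgHom A (MvPolynomial (Fin n) A) Pt) := by
        apply MvPolynomial.algHom_ext
        intro k
        simp only [AlgHom.comp_apply, aeval_X]
        exact he k
      exact DFunLike.congr_fun h2 G
    rw [h1]
    have h2 : π (c F) = 0 := by
      have : c F ∈ RingHom.ker π.toRingHom := by
        rw [hker]; exact Ideal.mem_map_of_mem _ hF
      exact this
    rw [h2, map_zero]
  -- Taylor
  have hcX : ∀ G : MvPolynomial (Fin n) A, aeval (fun k => c (X k)) G = c G := by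
    intro G
    have h2 : aeval (fun k => c (X k)) = IsScalarTower.toAlgHom A (MvPolynomial (Fin n) A) Pt := by
      apply MvPolynomial.algHom_ext
      intro k
      simp only [aeval_X]
      rfl
    rw [h2]; rfl
  have hT : ∀ F ∈ J, c F - ∑ k, (-(e k - c (X k))) * c (pderiv k F) ∈ Jt ^ 2 := by
    intro F hF
    obtain ⟨r, hr, h1⟩ := K88.Taylor.taylor_two Jt (fun k => c (X k)) (fun k => e k - c (X k)) 1 hd F
    have h2 : (fun k => c (X k) + 1 * (e k - c (X k))) = e := by
      ext k; ring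
    rw [h2] at h1
    simp only [hcX, one_mul, one_pow] at h1
    have h3 : c F - ∑ k, (-(e k - c (X k))) * c (pderiv k F) = aeval e F - r := by
      rw [h1]
      have : ∑ k, (-(e k - c (X k))) * c (pderiv k F) =
          -∑ k, (e k - c (X k)) * c (pderiv k F) := by
        rw [← Finset.sum_neg_distrib]
        exact Finset.sum_congr rfl fun k _ => by ring
      rw [this]
      ring
    rw [h3]
    exact sub_mem (heJ F hF) hr
  -- coefficients
  have hκ : ∀ k, ∃ κ : Fin q → Pt, -(e k - c (X k)) = ∑ j, κ j * c (f j) := by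
    intro k
    have h1 : -(e k - c (X k)) ∈ Ideal.span (Set.range fun i => c (f i)) := by
      rw [← hJf']; exact neg_mem (hd k)
    obtain ⟨κ, hκ⟩ := (Ideal.mem_span_range_iff_exists_fun).mp h1
    exact ⟨κ, hκ.symm⟩
  choose κ hκ using hκ
  have hμ : ∀ i, ∃ μ : Fin q → Pt, (∀ j, μ j ∈ Jt) ∧
      c (f i) - ∑ k, (-(e k - c (X k))) * c (pderiv k (f i)) = ∑ j, μ j * c (f j) := by
    intro i
    have h1 := hT (f i) (hfJ i)
    have h2 : Jt ^ 2 = Jt • Submodule.span Pt (Set.range fun i => c (f i)) := by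
      rw [pow_two, smul_eq_mul]
      congr 1
    rw [h2] at h1
    obtain ⟨a, ha, hsum⟩ := (Submodule.mem_ideal_smul_span_iff_exists_sum _ _ _).mp h1
    refine ⟨a, ha, ?_⟩
    rw [← hsum, Finsupp.sum_fintype]
    · rfl
    · intro j; simp
  choose μ hμJ hμ using hμ
  obtain ⟨H₁, K', -, hK'⟩ := exists_common (Pt := Pt) (C t : MvPolynomial (Fin n) A) ⊤
    (fun kj : Fin n × Fin q => κ kj.1 kj.2) (fun kj => by rw [Ideal.map_top]; trivial)
  obtain ⟨H₂, M', hM'mem, hM'⟩ := exists_common (Pt := Pt) (C t : MvPolynomial (Fin n) A)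
    (Ideal.span (Set.range f)) (fun ij : Fin q × Fin q => μ ij.1 ij.2)
    (fun ij => by rw [← hc, ← hJf]; exact hμJ _ _)
  -- the relation after localization
  have hloc : ∀ i, c (C (t ^ (H₁ + H₂)) * f i) =
      c (∑ j, (∑ k, pderiv k (f i) * (C (t ^ H₂) * K' (k, j)) + C (t ^ H₁) * M' (i, j)) * f j) := by
    intro i
    have h1 : c (f i) = ∑ j, (∑ k, κ k j * c (pderiv k (f i)) + μ i j) * c (f j) := by
      have h2 := hμ i
      simp only [hκ] at h2
      rw [sub_eq_iff_eq_add] at h2
      rw [h2]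
      simp only [add_mul, Finset.sum_add_distrib, Finset.sum_mul]
      rw [add_comm]
      congr 1
      rw [Finset.sum_comm]
      refine Finset.sum_congr rfl fun j _ => Finset.sum_congr rfl fun k _ => by ring
    have hK'' : ∀ k j, c (C t ^ H₁) * κ k j = c (K' (k, j)) := fun k j => hK' (k, j)
    have hM'' : ∀ i j, c (C t ^ H₂) * μ i j = c (M' (i, j)) := fun i j => hM' (i, j)
    rw [map_mul, h1, map_sum, Finset.mul_sum]
    refine Finset.sum_congr rfl fun j _ => ?_
    rw [map_mul, map_add, map_sum, map_mul c (C (t ^ H₁)), ← hM'']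
    simp only [map_mul, ← hK'', pow_add, map_pow]
    rw [← mul_assoc, mul_add, Finset.mul_sum]
    congr 2
    · refine Finset.sum_congr rfl fun k _ => by ring
    · ring
  obtain ⟨H₃, hH₃⟩ := exists_common_eq (Pt := Pt) (C t : MvPolynomial (Fin n) A) _ _ hloc
  refine ⟨q, f, H₃ + (H₁ + H₂), fun k j => C (t ^ H₃) * (C (t ^ H₂) * K' (k, j)),
    fun i j => C (t ^ H₃) * (C (t ^ H₁) * M' (i, j)), hfJ, ?_, ?_, ?_⟩
  · intro F hF
    have h1 : c F ∈ (Ideal.span (Set.range f)).map c := by
      rw [← hJf]; exact Ideal.mem_map_of_mem _ hF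
    obtain ⟨_, ⟨k, rfl⟩, hk⟩ := (IsLocalization.algebraMap_mem_map_algebraMap_iff
      (Submonoid.powers (C t : MvPolynomial (Fin n) A)) Pt _ _).mp h1
    exact ⟨k, by rw [map_pow]; exact hk⟩
  · intro i j
    exact Ideal.mul_mem_left _ _ (Ideal.mul_mem_left _ _ (hM'mem (i, j)))
  · intro i
    rw [pow_add, map_mul, mul_assoc]
    have h1 := hH₃ i
    rw [← map_pow] at h1
    rw [h1, Finset.mul_sum]
    refine Finset.sum_congr rfl fun j _ => ?_
    rw [← mul_assoc, mul_add, Finset.mul_sum]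
    congr 2
    refine Finset.sum_congr rfl fun k _ => by ring

end K88.SmoothData
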