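import Groth.Agent.CAlg.K88.NewtonHensel
import Groth.Agent.CAlg.K88.SmoothData
import Mathlib.RingTheory.Smooth.Locus
import Mathlib.RingTheory.AdicCompletion.Algebra

/-!
# Henselian approximation

`A` with `(A, tA)` henselian and bounded `t`-torsion, `B` of finite type over `A` with `B[1/t]` smooth
over `A[1/t]`: there is `c` such that every `A`-algebra map `B → A/t^(c+s)` agrees modulo `t^s` with an
`A`-algebra map `B → A`.
-/

set_option autoImplicit false

open MvPolynomial

namespace K88.HensApprox

universe u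

variable {A : Type u} [CommRing A]

theorem exists_point (t : A) [HenselianRing A (Ideal.span {t})] (N : ℕ)
    (hbd : ∀ a : A, (∃ m : ℕ, t ^ m * a = 0) → t ^ N * a = 0)
    {n q : ℕ} (J : Ideal (MvPolynomial (Fin n) A)) (f : Fin q → MvPolynomial (Fin n) A) (h : ℕ)
    (K : Fin n → Fin q → MvPolynomial (Fin n) A) (M : Fin q → Fin q → MvPolynomial (Fin n) A)
    (hfJ : ∀ i, f i ∈ J) (hgen : ∀ g ∈ J, ∃ k : ℕ, C (t ^ k) * g ∈ Ideal.span (Set.range f))
    (hM : ∀ i j, M i j ∈ Ideal.span (Set.range f))
    (hrel : ∀ i, C (t ^ h) * f i = ∑ j, (∑ k, pderiv k (f i) * K k j + M i j) * f j)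
    (s : ℕ) (a : Fin n → A) (ha : ∀ g ∈ J, t ^ (2 * h + N + 1 + s) ∣ eval a g) :
    ∃ a' : Fin n → A, (∀ g ∈ J, eval a' g = 0) ∧ ∀ i, t ^ s ∣ a' i - a i := by
  obtain ⟨a', h1, h2, h3⟩ := K88.NewtonHensel.newton t h f K M hM hrel (N + 1 + s) (by omega) a
    (fun i => by
      have := ha (f i) (hfJ i)
      rwa [show 2 * h + N + 1 + s = 2 * h + (N + 1 + s) by ring] at this)
  have h4 : ∀ i, eval a' (f i) = 0 := by
    intro i
    obtain ⟨u, hu⟩ := h2 i
    have h5 : t ^ N * u = 0 := by
      apply hbd
      refine ⟨h + (h + (N + 1 + s)), ?_⟩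
      rw [pow_add, mul_assoc, ← hu]
      exact h3 i
    rw [hu, show h + (N + 1 + s) = (h + 1 + s) + N by ring, pow_add, mul_assoc, h5, mul_zero]
  refine ⟨a', ?_, fun i => (pow_dvd_pow t (by omega)).trans (h1 i)⟩
  intro g hg
  have h5 : t ^ N ∣ eval a' g := by
    have h6 : t ^ N ∣ eval a' g - eval a g := by
      have h7 : ∀ i, Ideal.Quotient.mk (Ideal.span {t ^ N}) (a' i) =
          Ideal.Quotient.mk (Ideal.span {t ^ N}) (a i) := by
        intro i
        rw [Ideal.Quotient.eq, Ideal.mem_span_singleton]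
        exact (pow_dvd_pow t (by omega)).trans (h1 i)
      rw [← Ideal.mem_span_singleton, ← Ideal.Quotient.eq]
      have h8 : ∀ x : Fin n → A, Ideal.Quotient.mk (Ideal.span {t ^ N}) (eval x g) =
          eval₂ (Ideal.Quotient.mk (Ideal.span {t ^ N}))
            (fun i => Ideal.Quotient.mk (Ideal.span {t ^ N}) (x i)) g := by
        intro x
        have := MvPolynomial.eval₂_comp_left (Ideal.Quotient.mk (Ideal.span {t ^ N}))
          (RingHom.id A) x g
        simpa [Function.comp_def] using this
      rw [h8, h8]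
      congr 1
      ext i
      exact h7 i
    have h7 := (pow_dvd_pow t (show N ≤ 2 * h + N + 1 + s by omega)).trans (ha g hg)
    have h8 := dvd_add h6 h7
    rwa [sub_add_cancel] at h8
  obtain ⟨u, hu⟩ := h5
  obtain ⟨k, hk⟩ := hgen g hg
  have h6 : t ^ k * eval a' g = 0 := by
    have h7 : eval a' (C (t ^ k) * g) = 0 := by
      have h8 : Ideal.span (Set.range f) ≤ RingHom.ker (eval a') := by
        rw [Ideal.span_le]
        rintro _ ⟨i, rfl⟩
        exact h4 i
      exact h8 hk
    rwa [map_mul, eval_C] at h7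
  rw [hu]
  apply hbd
  refine ⟨k + N, ?_⟩
  rw [pow_add, mul_assoc, ← hu]
  exact h6

/-- `MvPolynomial` version of the data, for an algebra of finite type which is smooth after inverting `t`. -/
theorem exists_algHom (t : A) [HenselianRing A (Ideal.span {t})] (N : ℕ)
    (hbd : ∀ a : A, (∃ m : ℕ, t ^ m * a = 0) → t ^ N * a = 0)
    (B : Type u) [CommRing B] [Algebra A B] [Algebra.FiniteType A B]
    (Bt : Type u) [CommRing Bt] [Algebra A Bt] [Algebra B Bt] [IsScalarTower A B Bt]
    [IsLocalization.Away (algebraMap A B t) Bt] [Algebra.Smooth A Bt] :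
    ∃ c : ℕ, ∀ (s : ℕ) (φ : B →ₐ[A] (A ⧸ (Ideal.span {t} : Ideal A) ^ (c + s))),
      ∃ τ : B →ₐ[A] A, ∀ (b : B) (x : A), Ideal.Quotient.mk _ x = φ b → t ^ s ∣ τ b - x := by
  classical
  obtain ⟨n, π, hπ⟩ := Algebra.FiniteType.iff_quotient_mvPolynomial''.mp
    (inferInstance : Algebra.FiniteType A B)
  let P := MvPolynomial (Fin n) A
  let Pt := Localization.Away (C t : P)
  have hunit : ∀ y : Submonoid.powers (C t : P), IsUnit (((IsScalarTower.toAlgHom A B Bt).comp π) y) := by
    rintro ⟨_, k, rfl⟩
    simp only [map_pow, AlgHom.comp_apply]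
    refine IsUnit.pow _ ?_
    have h1 : π (C t) = algebraMap A B t := by
      rw [← MvPolynomial.algebraMap_eq]; exact π.commutes t
    rw [h1]
    exact IsLocalization.Away.algebraMap_isUnit (algebraMap A B t)
  let πt : Pt →ₐ[A] Bt := IsLocalization.liftAlgHom (M := Submonoid.powers (C t : P)) hunit
  have hπt : ∀ x : P, πt (algebraMap P Pt x) = algebraMap B Bt (π x) := fun x =>
    IsLocalization.lift_eq (M := Submonoid.powers (C t : P)) hunit x
  have hCt : ∀ k : ℕ, πt (algebraMap P Pt (C t ^ k)) = algebraMap B Bt (algebraMap A B t ^ k) := by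
    intro k
    rw [hπt, map_pow]
    congr 2
    rw [← MvPolynomial.algebraMap_eq]; exact π.commutes t
  have hsurj : Function.Surjective πt := by
    intro b
    obtain ⟨⟨b', ⟨_, k, rfl⟩⟩, hb⟩ :=
      IsLocalization.surj (Submonoid.powers (algebraMap A B t)) b
    obtain ⟨p, rfl⟩ := hπ b'
    refine ⟨IsLocalization.mk' Pt p (⟨(C t : P) ^ k, k, rfl⟩ : Submonoid.powers (C t : P)), ?_⟩
    have hu : IsUnit (algebraMap B Bt (algebraMap A B t ^ k)) := by
      rw [map_pow]
      exact (IsLocalization.Away.algebraMap_isUnit (algebraMap A B t)).pow k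
    apply hu.mul_right_cancel
    simp only at hb
    rw [hb, ← hCt, ← map_mul, ← hπt, IsLocalization.mk'_spec]
  have hker : RingHom.ker πt.toRingHom = (RingHom.ker π.toRingHom).map (algebraMap P Pt) := by
    apply le_antisymm
    · intro z hz
      obtain ⟨⟨p, ⟨_, k, rfl⟩⟩, hp⟩ := IsLocalization.surj (Submonoid.powers (C t : P)) z
      simp only at hp
      have h1 : algebraMap B Bt (π p) = 0 := by
        rw [← hπt, ← hp, map_mul]
        have : πt z = 0 := hz
        rw [this, zero_mul]
      obtain ⟨⟨_, l, rfl⟩, hl⟩ :=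
        (IsLocalization.map_eq_zero_iff (Submonoid.powers (algebraMap A B t)) Bt _).mp h1
      have h2 : C t ^ l * p ∈ RingHom.ker π.toRingHom := by
        rw [RingHom.mem_ker]
        change π (C t ^ l * p) = 0
        rw [map_mul, map_pow]
        have h3 : π (C t) = algebraMap A B t := by
          rw [← MvPolynomial.algebraMap_eq]; exact π.commutes t
        rw [h3]
        exact hl
      have hu : IsUnit (algebraMap P Pt (C t ^ (l + k))) := by
        rw [map_pow]
        exact (IsLocalization.Away.algebraMap_isUnit (C t : P)).pow _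
      have h3 : algebraMap P Pt (C t ^ (l + k)) * z ∈
          (RingHom.ker π.toRingHom).map (algebraMap P Pt) := by
        have h4 : algebraMap P Pt (C t ^ (l + k)) * z = algebraMap P Pt (C t ^ l * p) := by
          rw [pow_add, map_mul, mul_assoc, map_mul, ← hp]
          ring
        rw [h4]
        exact Ideal.mem_map_of_mem _ h2
      exact (Ideal.unit_mul_mem_iff_mem _ hu).mp h3
    · rw [Ideal.map_le_iff_le_comap]
      intro p hp
      rw [Ideal.mem_comap, RingHom.mem_ker]
      change πt (algebraMap P Pt p) = 0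
      rw [hπt]
      have : π p = 0 := hp
      rw [this, map_zero]
  have hfs : Algebra.FormallySmooth A Bt := Algebra.Smooth.formallySmooth
  have hfp : Algebra.FinitePresentation A Bt := Algebra.Smooth.finitePresentation
  obtain ⟨q, f, h, K, M, hfJ, hgen, hM, hrel⟩ :=
    K88.SmoothData.exists_data t (RingHom.ker π.toRingHom) πt hsurj hker
  refine ⟨2 * h + N + 1, fun s φ => ?_⟩
  choose a ha using fun i : Fin n => Ideal.Quotient.mk_surjective (φ (π (X i)))
  have hφ : ∀ g : P, Ideal.Quotient.mk _ (eval a g) = φ (π g) := by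
    intro g
    have h1 : (Ideal.Quotient.mkₐ A (Ideal.span {t} ^ (2 * h + N + 1 + s))).comp
        (aeval a : P →ₐ[A] A) = φ.comp π := by
      apply MvPolynomial.algHom_ext
      intro i
      simp only [AlgHom.comp_apply, aeval_X]
      exact ha i
    have h2 := DFunLike.congr_fun h1 g
    simp only [AlgHom.comp_apply, Ideal.Quotient.mkₐ_eq_mk] at h2
    rw [← h2, ← MvPolynomial.coe_aeval_eq_eval]
    rfl
  obtain ⟨a', ha', haa⟩ := exists_point t N hbd (RingHom.ker π.toRingHom) f h K M hfJ hgen hM hrel s a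
    (fun g hg => by
      have h1 : Ideal.Quotient.mk (Ideal.span {t} ^ (2 * h + N + 1 + s)) (eval a g) = 0 := by
        rw [hφ]
        have : π g = 0 := hg
        rw [this, map_zero]
      rw [Ideal.Quotient.eq_zero_iff_mem, Ideal.span_singleton_pow, Ideal.mem_span_singleton] at h1
      exact h1)
  have hlift : ∀ g ∈ RingHom.ker π.toRingHom, (aeval a' : P →ₐ[A] A) g = 0 := by
    intro g hg
    have := ha' g hg
    rwa [← MvPolynomial.coe_aeval_eq_eval] at this
  let e : (P ⧸ RingHom.ker π.toRingHom) ≃ₐ[A] B := Ideal.quotientKerAlgEquivOfSurjective hπ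
  let τ : B →ₐ[A] A := (Ideal.Quotient.liftₐ (RingHom.ker π.toRingHom) (aeval a') hlift).comp
    e.symm.toAlgHom
  have hτ : ∀ g : P, τ (π g) = eval a' g := by
    intro g
    have h1 : e.symm (π g) = Ideal.Quotient.mk _ g := by
      rw [AlgEquiv.symm_apply_eq]
      rfl
    change (Ideal.Quotient.liftₐ (RingHom.ker π.toRingHom) (aeval a') hlift) (e.symm (π g)) = _
    rw [h1, ← MvPolynomial.coe_aeval_eq_eval]
    rfl
  refine ⟨τ, fun b x hx => ?_⟩
  obtain ⟨g, rfl⟩ := hπ b
  rw [hτ]
  have h1 : t ^ s ∣ eval a' g - eval a g := by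
    rw [← Ideal.mem_span_singleton, ← Ideal.Quotient.eq]
    have h8 : ∀ x : Fin n → A, Ideal.Quotient.mk (Ideal.span {t ^ s}) (eval x g) =
        eval₂ (Ideal.Quotient.mk (Ideal.span {t ^ s}))
          (fun i => Ideal.Quotient.mk (Ideal.span {t ^ s}) (x i)) g := by
      intro x
      have := MvPolynomial.eval₂_comp_left (Ideal.Quotient.mk (Ideal.span {t ^ s}))
        (RingHom.id A) x g
      simpa [Function.comp_def] using this
    rw [h8, h8]
    congr 1
    ext i
    rw [Ideal.Quotient.eq, Ideal.mem_span_singleton]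
    exact haa i
  have h2 : t ^ s ∣ eval a g - x := by
    have h3 : Ideal.Quotient.mk (Ideal.span {t} ^ (2 * h + N + 1 + s)) (eval a g) =
        Ideal.Quotient.mk _ x := by rw [hφ, hx]
    rw [Ideal.Quotient.eq, Ideal.span_singleton_pow, Ideal.mem_span_singleton] at h3
    exact (pow_dvd_pow t (by omega)).trans h3
  have h3 := dvd_add h1 h2
  rwa [sub_add_sub_cancel] at h3

/-- smoothness over `A[1/t]` gives smoothness over `A`. -/
theorem smooth_of_smooth (t : A) (B : Type u) [CommRing B] [Algebra A B]
    (hsm : Algebra.Smooth (Localization.Away t)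
      (Localization (Algebra.algebraMapSubmonoid B (Submonoid.powers t)))) :
    Algebra.Smooth A (Localization (Algebra.algebraMapSubmonoid B (Submonoid.powers t))) := by
  have h1 : Algebra.Smooth A (Localization.Away t) := Algebra.Smooth.of_isLocalization_Away t
  exact Algebra.Smooth.comp A (Localization.Away t) _

theorem exists_algHom' (t : A) [HenselianRing A (Ideal.span {t})] (N : ℕ)
    (hbd : ∀ a : A, (∃ m : ℕ, t ^ m * a = 0) → t ^ N * a = 0)
    (B : Type u) [CommRing B] [Algebra A B] [Algebra.FiniteType A B]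
    (hsm : Algebra.Smooth (Localization.Away t)
      (Localization (Algebra.algebraMapSubmonoid B (Submonoid.powers t)))) :
    ∃ c : ℕ, ∀ (s : ℕ) (φ : B →ₐ[A] (A ⧸ (Ideal.span {t} : Ideal A) ^ (c + s))),
      ∃ τ : B →ₐ[A] A, ∀ (b : B) (x : A), Ideal.Quotient.mk _ x = φ b → t ^ s ∣ τ b - x := by
  have h1 := smooth_of_smooth t B hsm
  have h2 : IsLocalization.Away (algebraMap A B t)
      (Localization (Algebra.algebraMapSubmonoid B (Submonoid.powers t))) := by
    have h3 : Algebra.algebraMapSubmonoid B (Submonoid.powers t) =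
        Submonoid.powers (algebraMap A B t) := by
      rw [Algebra.algebraMapSubmonoid, Submonoid.map_powers]
    have h4 : IsLocalization (Algebra.algebraMapSubmonoid B (Submonoid.powers t))
      (Localization (Algebra.algebraMapSubmonoid B (Submonoid.powers t))) := inferInstance
    rw [IsLocalization.Away, ← h3]
    exact h4
  exact exists_algHom t N hbd B (Localization (Algebra.algebraMapSubmonoid B (Submonoid.powers t)))

end K88.HensApprox
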