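import Mathlib.RingTheory.LaurentSeries
import Mathlib.RingTheory.PowerSeries.Inverse
import Mathlib.RingTheory.Nilpotent.Basic
import Mathlib.RingTheory.Jacobson.Ideal
import Mathlib.RingTheory.Spectrum.Prime.Topology

/-!
# Laurent series over a commutative ring: basic API

* `mapHom f` : the coefficientwise ring map `R((t)) → S((t))`;
* `exists_bound`, `exists_eq_single_mul` : every Laurent series is `t^{-N}` times a power series;
* `isUnit_one_add_of_nilpotent_coeff` : `1 + f` is a unit when all coefficients of `f` are nilpotent;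
* `isNilpotent_coeff_of_isIdempotentElem` : coefficients of idempotents in nonzero degree are nilpotent.
-/

set_option autoImplicit false

open HahnSeries

namespace K88.LaurentBasic

variable {R S : Type*} [CommRing R] [CommRing S]

/-- The coefficientwise ring homomorphism `R((t)) → S((t))`. -/
noncomputable def mapHom (f : R →+* S) : LaurentSeries R →+* LaurentSeries S where
  toFun x := HahnSeries.map x (f : ZeroHom R S)
  map_one' := by
    ext n
    simp only [HahnSeries.map_coeff, HahnSeries.coeff_one]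
    split_ifs
    · exact map_one f
    · exact map_zero f
  map_mul' x y := by
    exact HahnSeries.map_mul (f : R →ₙ+* S)
  map_zero' := by
    ext n
    simp only [HahnSeries.map_coeff, HahnSeries.coeff_zero]
    exact map_zero f
  map_add' x y := by
    ext n
    simp only [HahnSeries.map_coeff, HahnSeries.coeff_add]
    exact map_add f _ _

@[simp] theorem mapHom_coeff (f : R →+* S) (x : LaurentSeries R) (n : ℤ) :
    (mapHom f x).coeff n = f (x.coeff n) := rfl

theorem exists_bound (x : LaurentSeries R) : ∃ N : ℕ, ∀ n : ℤ, n < -(N : ℤ) → x.coeff n = 0 := by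
  refine ⟨(-x.order).toNat, fun n hn => coeff_eq_zero_of_lt_order ?_⟩
  have := Int.self_le_toNat (-x.order)
  omega

theorem eq_single_mul (x : LaurentSeries R) (N : ℕ) (h : ∀ n : ℤ, n < -(N : ℤ) → x.coeff n = 0) :
    x = single (-(N : ℤ)) (1 : R) *
      ofPowerSeries ℤ R (PowerSeries.mk fun i => x.coeff ((i : ℤ) - N)) := by
  ext n
  rw [coeff_single_mul, one_mul]
  rcases lt_or_ge n (-(N : ℤ)) with hn | hn
  · rw [h n hn]
    symm
    have h1 : n - -(N : ℤ) < 0 := by omega
    have := PowerSeries.coeff_coe (PowerSeries.mk fun i => x.coeff ((i : ℤ) - N)) (n - -(N : ℤ))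
    rw [this, if_pos h1]
  · obtain ⟨k, hk⟩ := Int.eq_ofNat_of_zero_le (show 0 ≤ n - -(N : ℤ) by omega)
    rw [hk, ofPowerSeries_apply_coeff, PowerSeries.coeff_mk]
    congr 1
    omega

theorem exists_eq_single_mul (x : LaurentSeries R) :
    ∃ (N : ℕ) (g : PowerSeries R), x = single (-(N : ℤ)) (1 : R) * ofPowerSeries ℤ R g := by
  obtain ⟨N, hN⟩ := exists_bound x
  exact ⟨N, _, eq_single_mul x N hN⟩

theorem eq_ofPowerSeries (x : LaurentSeries R) (h : ∀ n : ℤ, n < 0 → x.coeff n = 0) :
    x = ofPowerSeries ℤ R (PowerSeries.mk fun i => x.coeff (i : ℤ)) := by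
  have := eq_single_mul x 0 (by simpa using h)
  simpa using this

theorem coeff_ofPowerSeries_neg (g : PowerSeries R) (n : ℤ) (h : n < 0) :
    (ofPowerSeries ℤ R g).coeff n = 0 := by
  have := PowerSeries.coeff_coe g n
  rw [this, if_pos h]

theorem isUnit_ofPowerSeries {g : PowerSeries R} (hg : IsUnit (PowerSeries.constantCoeff g)) :
    IsUnit (ofPowerSeries ℤ R g) := by
  have : IsUnit g := PowerSeries.isUnit_iff_constantCoeff.mpr hg
  exact this.map _

theorem isUnit_single (n : ℤ) : IsUnit (single n (1 : R)) := by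
  refine IsUnit.of_mul_eq_one (single (-n) (1 : R)) ?_
  rw [single_mul_single]
  simp

/-- `1 + f` is a unit as soon as all coefficients of `f` are nilpotent. -/
theorem isUnit_one_add_of_nilpotent_coeff (f : LaurentSeries R)
    (hf : ∀ n, IsNilpotent (f.coeff n)) : IsUnit (1 + f) := by
  obtain ⟨N, hN⟩ := exists_bound f
  -- the principal part
  let p : LaurentSeries R := ∑ i ∈ Finset.range N, single (-(i : ℤ) - 1) (f.coeff (-(i : ℤ) - 1))
  have hp : IsNilpotent p := by
    refine isNilpotent_sum fun i _ => ?_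
    obtain ⟨k, hk⟩ := hf (-(i : ℤ) - 1)
    refine ⟨k, ?_⟩
    rw [single_pow, hk, map_zero]
  have hpc : ∀ n : ℤ, n < 0 → p.coeff n = f.coeff n := by
    intro n hn
    change (∑ i ∈ Finset.range N, single (-(i : ℤ) - 1) (f.coeff (-(i : ℤ) - 1))).coeff n = _
    rw [coeff_sum]
    obtain ⟨k, hk⟩ := Int.eq_ofNat_of_zero_le (show 0 ≤ -n - 1 by omega)
    by_cases hkN : k < N
    · rw [Finset.sum_eq_single k]
      · have : n = -(k : ℤ) - 1 := by omega
        rw [← this, coeff_single_same]
      · intro j _ hjk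
        rw [coeff_single_of_ne]
        omega
      · intro h
        exact absurd (Finset.mem_range.mpr hkN) h
    · rw [Finset.sum_eq_zero]
      · symm
        apply hN
        omega
      · intro j hj
        rw [coeff_single_of_ne]
        have := Finset.mem_range.mp hj
        omega
  have hq : ∀ n : ℤ, n < 0 → (1 + f - p).coeff n = 0 := by
    intro n hn
    rw [coeff_sub, coeff_add, hpc n hn, coeff_one, if_neg (by omega), zero_add, sub_self]
  have hpc0 : p.coeff 0 = 0 := by
    change (∑ i ∈ Finset.range N, single (-(i : ℤ) - 1) (f.coeff (-(i : ℤ) - 1))).coeff 0 = _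
    rw [coeff_sum, Finset.sum_eq_zero]
    intro j _
    rw [coeff_single_of_ne]
    omega
  have hu : IsUnit (1 + f - p) := by
    rw [eq_ofPowerSeries _ hq]
    apply isUnit_ofPowerSeries
    rw [← PowerSeries.coeff_zero_eq_constantCoeff_apply, PowerSeries.coeff_mk]
    have : (1 + f - p).coeff ((0 : ℕ) : ℤ) = 1 + f.coeff 0 := by
      rw [Nat.cast_zero, coeff_sub, coeff_add, hpc0, coeff_one, if_pos rfl, sub_zero]
    rw [this]
    exact IsNilpotent.isUnit_one_add (hf 0)
  have h1 : 1 + f = (1 + f - p) + p := by ring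
  rw [h1]
  exact IsNilpotent.isUnit_add_left_of_commute hp hu (Commute.all _ _)

/-- The coefficients of an idempotent Laurent series in nonzero degrees are nilpotent, and so is
`e₀² - e₀`. -/
theorem isNilpotent_coeff_of_isIdempotentElem {e : LaurentSeries R} (he : IsIdempotentElem e) :
    (∀ n : ℤ, n ≠ 0 → IsNilpotent (e.coeff n)) ∧
      IsNilpotent (e.coeff 0 * e.coeff 0 - e.coeff 0) := by
  have key : ∀ p : Ideal R, p.IsPrime → (∀ n : ℤ, n ≠ 0 → e.coeff n ∈ p) ∧
      e.coeff 0 * e.coeff 0 - e.coeff 0 ∈ p := by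
    intro p hp
    let φ : R →+* p.ResidueField := algebraMap R p.ResidueField
    have hφ : ∀ a, φ a = 0 ↔ a ∈ p := fun a => by
      simp [φ]
    have h1 : IsIdempotentElem (mapHom φ e) := he.map (mapHom φ)
    have h2 : mapHom φ e = 0 ∨ mapHom φ e = 1 :=
      IsIdempotentElem.iff_eq_zero_or_one.mp h1
    have hc : ∀ n : ℤ, φ (e.coeff n) = (mapHom φ e).coeff n := fun n => rfl
    rcases h2 with h2 | h2
    · refine ⟨fun n _ => ?_, ?_⟩
      · rw [← hφ, hc, h2, coeff_zero]
      · rw [← hφ, map_sub, map_mul, hc, h2, coeff_zero]; ring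
    · refine ⟨fun n hn => ?_, ?_⟩
      · rw [← hφ, hc, h2, coeff_one, if_neg hn]
      · rw [← hφ, map_sub, map_mul, hc, h2, coeff_one, if_pos rfl]; ring
  have hnil : ∀ a : R, (∀ p : Ideal R, p.IsPrime → a ∈ p) → IsNilpotent a := by
    intro a ha
    rw [← mem_nilradical, nilradical_eq_sInf, Submodule.mem_sInf]
    exact fun p hp => ha p hp
  exact ⟨fun n hn => hnil _ fun p hp => (key p hp).1 n hn, hnil _ fun p hp => (key p hp).2⟩

end K88.LaurentBasic
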