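import Groth.Prelude.Def_Hens2
import Groth.Agent.CalgB.HensPair
import Groth.Agent.S0526
import Groth.Agent.S1958
import Groth.Agent.S1994
import Groth.Agent.CAlg.K88.LaurentBasic
import Mathlib.RingTheory.Polynomial.Subring
import Mathlib.RingTheory.PowerSeries.Ideal
import Mathlib.RingTheory.Filtration
import Mathlib.RingTheory.AdicCompletion.Completeness

/-!
# The henselization of `R[t]` along `(t)` embeds in `R[[t]]`
-/

set_option autoImplicit false

open Polynomial

namespace K88.HensLaurent

universe u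

/-- directed unions of henselian pairs `(F i, (x))` are henselian. -/
theorem henselianRing_of_directed {B : Type*} [CommRing B] (x : B) {ι : Type*} [Nonempty ι]
    (F : ι → Subring B) (hx : ∀ i, x ∈ F i) (hd : Directed (· ≤ ·) F) (htop : ∀ b : B, ∃ i, b ∈ F i)
    (hF : ∀ i, HenselianRing (F i) (Ideal.span {(⟨x, hx i⟩ : F i)})) :
    HenselianRing B (Ideal.span {x}) := by
  classical
  -- finite subsets
  have hfin : ∀ T : Finset B, ∃ i, ∀ b ∈ T, b ∈ F i := by
    intro T
    choose φ hφ using htop
    obtain ⟨i, hi⟩ := hd.finset_le (T.image φ)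
    exact ⟨i, fun b hb => hi _ (Finset.mem_image_of_mem φ hb) (hφ b)⟩
  refine ⟨?_, ?_⟩
  · rw [Ideal.span_singleton_le_iff_mem, Ideal.mem_jacobson_bot]
    intro y
    obtain ⟨i, hi⟩ := hfin {y}
    have hy := hi y (by simp)
    have h1 : (⟨x, hx i⟩ : F i) ∈ (⊥ : Ideal (F i)).jacobson :=
      (hF i).jac (Ideal.mem_span_singleton_self _)
    have h2 := (Ideal.mem_jacobson_bot.mp h1 ⟨y, hy⟩).map (F i).subtype
    simpa using h2
  · intro f hf a₀ h₁ h₂
    obtain ⟨w, hw⟩ := Ideal.mem_span_singleton.mp h₁
    obtain ⟨v, hv⟩ := h₂.exists_right_inv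
    obtain ⟨v, rfl⟩ := Ideal.Quotient.mk_surjective v
    rw [← map_mul, ← map_one (Ideal.Quotient.mk _), Ideal.Quotient.eq] at hv
    obtain ⟨z, hz⟩ := Ideal.mem_span_singleton.mp hv
    obtain ⟨i, hi⟩ := hfin (f.coeffs ∪ {a₀, w, v, z})
    have hfc : (↑f.coeffs : Set B) ⊆ F i := fun b hb => hi b (by
      rw [Finset.mem_union]; exact Or.inl hb)
    have ha : a₀ ∈ F i := hi _ (by simp)
    have hwi : w ∈ F i := hi _ (by simp)
    have hvi : v ∈ F i := hi _ (by simp)
    have hzi : z ∈ F i := hi _ (by simp)
    set g : (F i)[X] := f.toSubring (F i) hfc with hg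
    have hgm : g.Monic := (Polynomial.monic_toSubring f (F i) hfc).mpr hf
    have hgf : g.map (F i).subtype = f := Polynomial.map_toSubring f (F i) hfc
    have hev : ∀ (p : (F i)[X]) (a : F i), (F i).subtype (p.eval a) = (p.map (F i).subtype).eval a.1 := by
      intro p a
      rw [← Polynomial.eval₂_at_apply, Polynomial.eval_map]
      rfl
    obtain ⟨a, ha1, ha2⟩ := (hF i).is_henselian g hgm ⟨a₀, ha⟩ (by
      rw [Ideal.mem_span_singleton]
      refine ⟨⟨w, hwi⟩, ?_⟩
      apply (F i).subtype_injective
      rw [hev, hgf, map_mul]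
      exact hw) (by
      refine IsUnit.of_mul_eq_one (Ideal.Quotient.mk _ ⟨v, hvi⟩) ?_
      rw [← map_mul, ← map_one (Ideal.Quotient.mk _), Ideal.Quotient.eq,
        Ideal.mem_span_singleton]
      refine ⟨⟨z, hzi⟩, ?_⟩
      apply (F i).subtype_injective
      rw [map_sub, map_mul, hev, ← Polynomial.derivative_map, hgf, map_mul, map_one]
      exact hz)
    refine ⟨a.1, ?_, ?_⟩
    · have h3 := hev g a
      rw [hgf, ha1.eq_zero, map_zero] at h3
      exact h3.symm
    · obtain ⟨c, hc⟩ := Ideal.mem_span_singleton.mp ha2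
      rw [Ideal.mem_span_singleton]
      exact ⟨c.1, congrArg Subtype.val hc⟩

section Noetherian

variable {R : Type u} [CommRing R] {B : Type u} [CommRing B] [Algebra R[X] B]

theorem injective_of_noetherian [IsNoetherianRing R]
    (hB : Hens2.IsPairHenselization R[X] (Ideal.span {(X : R[X])}) B)
    (ψ : B →+* PowerSeries R)
    (hψ : ψ.comp (algebraMap R[X] B) = Polynomial.coeToPowerSeries.ringHom) :
    Function.Injective ψ := by
  have hN : IsNoetherianRing B := (Groth.Agent.S1994.result R[X] _ B hB).1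
  have hq := (Groth.Agent.S1958.result R[X] _ B hB).2
  have hψ' : ∀ p : R[X], ψ (algebraMap R[X] B p) = (p : PowerSeries R) := fun p =>
    DFunLike.congr_fun hψ p
  have hmap : ∀ n : ℕ, (Ideal.span {(X : R[X])} ^ n).map (algebraMap R[X] B) =
      Ideal.span {algebraMap R[X] B X ^ n} := by
    intro n
    rw [Ideal.span_singleton_pow, Ideal.map_span, Set.image_singleton, map_pow]
  rw [injective_iff_map_eq_zero]
  intro b hb
  have h1 : ∀ n : ℕ, b ∈ Ideal.span {algebraMap R[X] B X ^ n} := by
    intro n
    obtain ⟨p, hp⟩ := (hq n).2 (Ideal.Quotient.mk _ b)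
    obtain ⟨p, rfl⟩ := Ideal.Quotient.mk_surjective p
    rw [Ideal.quotientMap_mk, Ideal.Quotient.eq, hmap] at hp
    obtain ⟨c, hc⟩ := Ideal.mem_span_singleton.mp hp
    have h2 : (p : PowerSeries R) = PowerSeries.X ^ n * ψ c := by
      have h3 := congrArg ψ hc
      rw [map_sub, hψ', hb, sub_zero, map_mul, map_pow, hψ', Polynomial.coe_X] at h3
      exact h3
    have h3 : (X : R[X]) ^ n ∣ p := by
      rw [Polynomial.X_pow_dvd_iff]
      intro d hd
      have h4 : (PowerSeries.X : PowerSeries R) ^ n ∣ (p : PowerSeries R) := ⟨_, h2⟩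
      have h5 := PowerSeries.X_pow_dvd_iff.mp h4 d hd
      simpa using h5
    obtain ⟨q, rfl⟩ := h3
    rw [Ideal.mem_span_singleton]
    refine ⟨algebraMap R[X] B q - c, ?_⟩
    rw [map_mul, map_pow] at hc
    rw [mul_sub, ← hc]
    ring
  have h2 : (⨅ n : ℕ, (Ideal.span {algebraMap R[X] B X}) ^ n • (⊤ : Submodule B B)) = ⊥ :=
    Ideal.iInf_pow_smul_eq_bot_of_le_jacobson _ (by
      have := hB.1.jac
      rwa [Ideal.map_span, Set.image_singleton] at this)
  have h3 : b ∈ (⨅ n : ℕ, (Ideal.span {algebraMap R[X] B X}) ^ n • (⊤ : Submodule B B)) := by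
    rw [Submodule.mem_iInf]
    intro n
    rw [smul_eq_mul, Ideal.mul_top, Ideal.span_singleton_pow]
    exact h1 n
  rw [h2] at h3
  exact h3

end Noetherian

section General

variable (R : Type u) [CommRing R]

/-- the ring generated by a finite set -/
abbrev Sub (s : Finset R) : Subalgebra ℤ R := Algebra.adjoin ℤ (s : Set R)

instance (s : Finset R) : IsNoetherianRing (Sub R s) := by
  have : Algebra.FiniteType ℤ (Sub R s) :=
    (Subalgebra.fg_iff_finiteType _).mp (Subalgebra.fg_adjoin_finset s)
  exact Algebra.FiniteType.isNoetherianRing ℤ _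

/-- a henselization of the finitely generated pair. -/
theorem exists_hens (s : Finset R) : ∃ (C : Type u) (_ : CommRing C) (_ : Algebra (Sub R s)[X] C),
    Hens2.IsPairHenselization (Sub R s)[X] (Ideal.span {(X : (Sub R s)[X])}) C := by
  obtain ⟨C, h1, h2, h3, h4⟩ := Groth.Agent.CalgB.HensPair.exists_henselization (Sub R s)[X]
    (Ideal.span {(X : (Sub R s)[X])})
  exact ⟨C, h1, h2, h3, h4⟩

variable {R}

/-- every element of the henselization comes from the henselization over a finitely generated subring,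
and `B → R[[t]]` is injective. -/
theorem exists_fg {B : Type u} [CommRing B] [Algebra R[X] B]
    (hB : Hens2.IsPairHenselization R[X] (Ideal.span {(X : R[X])}) B) (b : B) :
    ∃ (s : Finset R) (C : Type u) (_ : CommRing C) (_ : Algebra (Sub R s)[X] C)
      (_ : Hens2.IsPairHenselization (Sub R s)[X] (Ideal.span {(X : (Sub R s)[X])}) C)
      (g : C →+* B), g.comp (algebraMap (Sub R s)[X] C) =
        (algebraMap R[X] B).comp (mapRingHom (algebraMap (Sub R s) R)) ∧ ∃ c, g c = b := by
  classical
  choose C i1 i2 hC using exists_hens R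
  have hXB : (Ideal.span {(X : R[X])}).map (algebraMap R[X] B) = Ideal.span {algebraMap R[X] B X} := by
    rw [Ideal.map_span, Set.image_singleton]
  have hXC : ∀ s, (Ideal.span {(X : (Sub R s)[X])}).map (algebraMap (Sub R s)[X] (C s)) =
      Ideal.span {algebraMap (Sub R s)[X] (C s) X} := by
    intro s
    rw [Ideal.map_span, Set.image_singleton]
  have hHB : HenselianRing B (Ideal.span {algebraMap R[X] B X}) := by
    rw [← hXB]; exact hB.1
  have hHC : ∀ s, HenselianRing (C s) (Ideal.span {algebraMap (Sub R s)[X] (C s) X}) := by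
    intro s
    rw [← hXC]; exact (hC s).1
  let a : ∀ s : Finset R, (Sub R s)[X] →+* B := fun s =>
    (algebraMap R[X] B).comp (mapRingHom (algebraMap (Sub R s) R))
  have haX : ∀ s, a s X = algebraMap R[X] B X := by
    intro s
    simp [a]
  have hg : ∀ s, ∃! g : C s →+* B, g.comp (algebraMap (Sub R s)[X] (C s)) = a s := fun s =>
    (hC s).2 B (Ideal.span {algebraMap R[X] B X}) (a s) hHB (by
      rw [Ideal.map_span, Set.image_singleton, haX])
  choose g hg hguniq using hg
  simp only at hg hguniq
  -- directedness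
  have hmono : ∀ s s' : Finset R, s ⊆ s' → (g s).range ≤ (g s').range := by
    intro s s' h
    let ι : Sub R s →+* Sub R s' := (Subalgebra.inclusion (Algebra.adjoin_mono (by exact_mod_cast h) :
      Sub R s ≤ Sub R s')).toRingHom
    obtain ⟨k, hk, -⟩ := (hC s).2 (C s') _ ((algebraMap (Sub R s')[X] (C s')).comp (mapRingHom ι))
      (hHC s') (by
        rw [Ideal.map_span, Set.image_singleton]
        simp)
    have h1 : (g s').comp k = g s := by
      apply hguniq
      rw [RingHom.comp_assoc, hk, ← RingHom.comp_assoc, hg]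
      apply Polynomial.ringHom_ext
      · intro r
        simp [a, ι]
      · simp [a, ι]
    rintro _ ⟨c, rfl⟩
    exact ⟨k c, by rw [← h1]; rfl⟩
  have hdir : Directed (· ≤ ·) (fun s => (g s).range) := fun s s' =>
    ⟨s ∪ s', hmono _ _ Finset.subset_union_left, hmono _ _ Finset.subset_union_right⟩
  let B' : Subring B := ⨆ s, (g s).range
  have hB'mem : ∀ b : B, b ∈ B' ↔ ∃ s, b ∈ (g s).range := fun b =>
    Subring.mem_iSup_of_directed hdir
  have halgmem : ∀ p : R[X], algebraMap R[X] B p ∈ B' := by
    intro p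
    rw [hB'mem]
    refine ⟨p.coeffs, ?_⟩
    have hp : (↑p.coeffs : Set R) ⊆ (Sub R p.coeffs).toSubring := Algebra.subset_adjoin
    refine ⟨algebraMap _ _ (p.toSubring (Sub R p.coeffs).toSubring hp : (Sub R p.coeffs)[X]), ?_⟩
    have h1 := DFunLike.congr_fun (hg p.coeffs) (p.toSubring (Sub R p.coeffs).toSubring hp)
    rw [RingHom.comp_apply] at h1
    refine h1.trans ?_
    change algebraMap R[X] B (mapRingHom _ _) = _
    congr 1
    exact Polynomial.map_toSubring p (Sub R p.coeffs).toSubring hp
  -- the union is henselian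
  have hHB' : HenselianRing B' (Ideal.span {(⟨algebraMap R[X] B X, halgmem X⟩ : B')}) := by
    refine henselianRing_of_directed _ (fun s : Finset R => (g s).range.comap B'.subtype) ?_ ?_ ?_ ?_
    · intro s
      refine ⟨algebraMap (Sub R s)[X] (C s) X, ?_⟩
      have h1 := DFunLike.congr_fun (hg s) X
      rw [RingHom.comp_apply, haX] at h1
      exact h1
    · intro s s'
      exact ⟨s ∪ s', fun x hx => hmono _ _ Finset.subset_union_left hx,
        fun x hx => hmono _ _ Finset.subset_union_right hx⟩
    · rintro ⟨b, hb⟩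
      exact (hB'mem b).mp hb
    · intro s
      have hmem : ∀ c : C s, g s c ∈ B' := fun c => (hB'mem _).mpr ⟨s, c, rfl⟩
      let ρ₀ : C s →+* B' := (g s).codRestrict B' hmem
      have hmem' : ∀ c : C s, ρ₀ c ∈ (g s).range.comap B'.subtype := fun c => ⟨c, rfl⟩
      let ρ : C s →+* ((g s).range.comap B'.subtype : Subring B') := ρ₀.codRestrict _ hmem'
      have hρ : Function.Surjective ρ := by
        rintro ⟨⟨b, hb⟩, ⟨c, hc⟩⟩
        refine ⟨c, ?_⟩
        apply Subtype.ext
        apply Subtype.ext
        exact hc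
      let _ : Algebra (C s) ((g s).range.comap B'.subtype : Subring B') := ρ.toAlgebra
      have : Algebra.IsIntegral (C s) ((g s).range.comap B'.subtype : Subring B') :=
        Algebra.isIntegral_of_surjective hρ
      have := hHC s
      have h2 := Groth.Agent.S0526.result (C s) (Ideal.span {algebraMap (Sub R s)[X] (C s) X})
        ((g s).range.comap B'.subtype : Subring B')
      rw [Ideal.map_span, Set.image_singleton] at h2
      have h3 : ρ (algebraMap (Sub R s)[X] (C s) X) = ⟨⟨algebraMap R[X] B X, halgmem X⟩,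
          algebraMap _ _ X, by
            have h1 := DFunLike.congr_fun (hg s) X
            rw [RingHom.comp_apply, haX] at h1
            exact h1⟩ := by
        apply Subtype.ext
        apply Subtype.ext
        have h1 := DFunLike.congr_fun (hg s) X
        rw [RingHom.comp_apply, haX] at h1
        exact h1
      rw [← h3]
      exact h2
  obtain ⟨k, hk, -⟩ := hB.2 B' _ ((algebraMap R[X] B).codRestrict B' halgmem) hHB' (by
    rw [Ideal.map_span, Set.image_singleton]
    exact le_of_eq rfl)
  have h1 : B'.subtype.comp k = RingHom.id B := by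
    obtain ⟨_, -, huniq⟩ := hB.2 B _ (algebraMap R[X] B) hHB (by rw [hXB])
    rw [huniq (RingHom.id B) rfl, huniq (B'.subtype.comp k) (by
      change (B'.subtype.comp k).comp (algebraMap R[X] B) = algebraMap R[X] B
      rw [RingHom.comp_assoc, hk]; rfl)]
  have h2 : b ∈ B' := by
    have h3 : (k b : B) = b := DFunLike.congr_fun h1 b
    rw [← h3]
    exact (k b).2
  obtain ⟨s, c, hc⟩ := (hB'mem b).mp h2
  exact ⟨s, C s, i1 s, i2 s, hC s, g s, hg s, c, hc⟩

theorem injective {B : Type u} [CommRing B] [Algebra R[X] B]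
    (hB : Hens2.IsPairHenselization R[X] (Ideal.span {(X : R[X])}) B)
    (ψ : B →+* PowerSeries R)
    (hψ : ψ.comp (algebraMap R[X] B) = Polynomial.coeToPowerSeries.ringHom) :
    Function.Injective ψ := by
  rw [injective_iff_map_eq_zero]
  intro b hb
  obtain ⟨s, C, _, _, hC, g, hg, c, rfl⟩ := exists_fg hB b
  -- `C → (Sub R s)[[t]]`
  have hhens : HenselianRing (PowerSeries (Sub R s)) (Ideal.span {PowerSeries.X}) := inferInstance
  obtain ⟨ψs, hψs, -⟩ := hC.2 (PowerSeries (Sub R s)) _ Polynomial.coeToPowerSeries.ringHom hhens (by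
    rw [Ideal.map_span, Set.image_singleton, Polynomial.coeToPowerSeries.ringHom_apply,
      Polynomial.coe_X])
  have hhens' : HenselianRing (PowerSeries R) (Ideal.span {PowerSeries.X}) := inferInstance
  obtain ⟨_, -, huniq⟩ := hC.2 (PowerSeries R) _
    (Polynomial.coeToPowerSeries.ringHom.comp (mapRingHom (algebraMap (Sub R s) R))) hhens' (by
    rw [Ideal.map_span, Set.image_singleton, RingHom.comp_apply, coe_mapRingHom, Polynomial.map_X,
      Polynomial.coeToPowerSeries.ringHom_apply, Polynomial.coe_X])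
  have h1 : ψ.comp g = (PowerSeries.map (algebraMap (Sub R s) R)).comp ψs := by
    rw [huniq (ψ.comp g) (by
      change (ψ.comp g).comp _ = _
      rw [RingHom.comp_assoc, hg, ← RingHom.comp_assoc, hψ]),
      huniq ((PowerSeries.map (algebraMap (Sub R s) R)).comp ψs) (by
      change ((PowerSeries.map (algebraMap (Sub R s) R)).comp ψs).comp _ = _
      rw [RingHom.comp_assoc, hψs]
      ext n
      · simp
      · simp [PowerSeries.coeff_X])]
  have h2 : PowerSeries.map (algebraMap (Sub R s) R) (ψs c) = 0 := by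
    have := DFunLike.congr_fun h1 c
    rw [RingHom.comp_apply, RingHom.comp_apply] at this
    rw [← this]; exact hb
  have h3 : ψs c = 0 := by
    apply PowerSeries.map_injective (algebraMap (Sub R s) R) Subtype.val_injective
    rw [h2, map_zero]
  rw [(injective_iff_map_eq_zero ψs).mp (injective_of_noetherian hC ψs hψs) c h3, map_zero]

/-- the natural map `B → R[[t]]`. -/
theorem exists_psi {B : Type u} [CommRing B] [Algebra R[X] B]
    (hB : Hens2.IsPairHenselization R[X] (Ideal.span {(X : R[X])}) B) :
    ∃ ψ : B →+* PowerSeries R, ψ.comp (algebraMap R[X] B) = Polynomial.coeToPowerSeries.ringHom := by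
  have hhens' : HenselianRing (PowerSeries R) (Ideal.span {PowerSeries.X}) := inferInstance
  obtain ⟨ψ, hψ, -⟩ := hB.2 (PowerSeries R) _ Polynomial.coeToPowerSeries.ringHom hhens' (by
    rw [Ideal.map_span, Set.image_singleton, Polynomial.coeToPowerSeries.ringHom_apply,
      Polynomial.coe_X])
  exact ⟨ψ, hψ⟩

/-- `B[1/t] → R((t))` is injective. -/
theorem exists_toLaurent {B : Type u} [CommRing B] [Algebra R[X] B]
    (hB : Hens2.IsPairHenselization R[X] (Ideal.span {(X : R[X])}) B) (ψ : B →+* PowerSeries R)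
    (hψ : ψ.comp (algebraMap R[X] B) = Polynomial.coeToPowerSeries.ringHom)
    (L : Type u) [CommRing L] [Algebra B L] [IsLocalization.Away (algebraMap R[X] B X) L] :
    ∃ Φ : L →+* LaurentSeries R, Function.Injective Φ ∧
      ∀ b, Φ (algebraMap B L b) = HahnSeries.ofPowerSeries ℤ R (ψ b) := by
  have hX : ψ (algebraMap R[X] B X) = PowerSeries.X := by
    have := DFunLike.congr_fun hψ X
    rwa [RingHom.comp_apply, Polynomial.coeToPowerSeries.ringHom_apply, Polynomial.coe_X] at this
  have hu : ∀ y : Submonoid.powers (algebraMap R[X] B X),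
      IsUnit (((HahnSeries.ofPowerSeries ℤ R).comp ψ) y) := by
    rintro ⟨_, n, rfl⟩
    simp only [map_pow, RingHom.comp_apply, hX]
    refine IsUnit.pow _ ?_
    rw [HahnSeries.ofPowerSeries_X]
    exact K88.LaurentBasic.isUnit_single _
  refine ⟨IsLocalization.lift hu, ?_, fun b => IsLocalization.lift_eq hu b⟩
  rw [injective_iff_map_eq_zero]
  intro z hz
  obtain ⟨⟨b, ⟨_, n, rfl⟩⟩, hb⟩ := IsLocalization.surj (Submonoid.powers (algebraMap R[X] B X)) z
  simp only at hb
  have h1 : HahnSeries.ofPowerSeries ℤ R (ψ b) = 0 := by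
    have h2 := IsLocalization.lift_eq (S := L) hu b
    rw [← hb, map_mul, hz, zero_mul] at h2
    exact h2.symm
  have h2 : b = 0 := by
    apply injective hB ψ hψ
    apply HahnSeries.ofPowerSeries_injective (Γ := ℤ) (R := R)
    rw [h1, map_zero, map_zero]
  rw [h2, map_zero] at hb
  have hu' : IsUnit (algebraMap B L (algebraMap R[X] B X ^ n)) := by
    rw [map_pow]
    exact (IsLocalization.Away.algebraMap_isUnit _).pow n
  exact (hu'.mul_left_eq_zero).mp hb

end General

end K88.HensLaurent
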