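import Groth.Agent.Sga7.H598.Kron
import Mathlib.RingTheory.Localization.FractionRing
import Mathlib.RingTheory.MvPolynomial.Basic

/-!
# Kronecker's theorem

`isIntegral_coeff_mul_coeff`: `f, g` polynomials over an `A`-algebra `B` such that the coefficients of `f * g`
come from `A`: then the products of a coefficient of `f` and a coefficient of `g` are integral over `A`.
-/

set_option autoImplicit false

open Polynomial

namespace K88.Kronecker

open Groth.Agent.Sga7.H598.Kron

/-- Gauss' lemma for valuation subrings. -/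
theorem coeff_mul_coeff_mem {K : Type*} [Field K] (V : ValuationSubring K) (f g : K[X])
    (hfg : ∀ m, (f * g).coeff m ∈ V) (k l : ℕ) : f.coeff k * g.coeff l ∈ V := by
  classical
  let v := V.valuation
  obtain ⟨m0, hm1, hm2⟩ := exists_first_max v f
  obtain ⟨l0, hl1, hl2⟩ := exists_first_max v g
  rw [← V.valuation_le_one_iff]
  have hle : v (f.coeff k * g.coeff l) ≤ v (f.coeff m0) * v (g.coeff l0) := by
    rw [map_mul]; exact mul_le_mul' (hm1 k) (hl1 l)
  refine hle.trans ?_
  by_cases hne : v (f.coeff m0) = 0
  · rw [hne, zero_mul]; exact zero_le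
  by_cases hne' : v (g.coeff l0) = 0
  · rw [hne', mul_zero]; exact zero_le
  have key : v ((f * g).coeff (m0 + l0)) = v (f.coeff m0) * v (g.coeff l0) := by
    rw [coeff_mul, ← map_mul]
    have hmem : (m0, l0) ∈ Finset.antidiagonal (m0 + l0) := by simp
    rw [← Finset.add_sum_erase _ _ hmem]
    refine Valuation.map_add_eq_of_lt_left _ ?_
    refine Valuation.map_sum_lt _ ?_ fun p hp => ?_
    · rw [map_mul]
      exact mul_ne_zero hne hne'
    · rw [Finset.mem_erase, Finset.mem_antidiagonal] at hp
      obtain ⟨hp1, hp2⟩ := hp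
      rw [map_mul, map_mul]
      rcases lt_trichotomy p.1 m0 with h | h | h
      · exact lt_of_le_of_lt (mul_le_mul' le_rfl (hl1 p.2))
          (mul_lt_mul_of_pos_right (hm2 _ h) (zero_lt_iff.mpr hne'))
      · exact absurd (Prod.ext h (by omega)) hp1
      · exact lt_of_le_of_lt (mul_le_mul' (hm1 p.1) le_rfl)
          (mul_lt_mul_of_pos_left (hl2 _ (by omega)) (zero_lt_iff.mpr hne))
  rw [← key]
  exact (V.valuation_le_one_iff _).mpr (hfg (m0 + l0))

/-- the case of a field -/
theorem isIntegral_field {A K : Type*} [CommRing A] [Field K] [Algebra A K] (f g : K[X])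
    (hfg : ∀ m, IsIntegral A ((f * g).coeff m)) (k l : ℕ) :
    IsIntegral A (f.coeff k * g.coeff l) := by
  have hD : IsIntegrallyClosedIn (integralClosure A K).toSubring K :=
    inferInstanceAs (IsIntegrallyClosedIn (integralClosure A K) K)
  by_contra hc
  have hc' : f.coeff k * g.coeff l ∉ (integralClosure A K).toSubring := hc
  obtain ⟨V, hV, hcV⟩ := Subring.exists_le_valuationSubring_of_isIntegrallyClosedIn hc'
  exact hcV (coeff_mul_coeff_mem V f g (fun m => hV (hfg m)) k l)

theorem isIntegral_coeff_mul_coeff {A B : Type*} [CommRing A] [CommRing B] [Algebra A B] (f g : B[X])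
    (hfg : ∀ m, (f * g).coeff m ∈ (algebraMap A B).range) (k l : ℕ) :
    IsIntegral A (f.coeff k * g.coeff l) := by
  classical
  -- the universal situation
  let N := max (max f.natDegree g.natDegree) (max k l)
  let U := MvPolynomial (ℕ ⊕ ℕ) ℤ
  let K := FractionRing U
  let F : U[X] := ∑ i ∈ Finset.range (N + 1), Polynomial.monomial i (MvPolynomial.X (Sum.inl i) : U)
  let G : U[X] := ∑ i ∈ Finset.range (N + 1), Polynomial.monomial i (MvPolynomial.X (Sum.inr i) : U)
  have hF : ∀ i, i ≤ N → F.coeff i = MvPolynomial.X (Sum.inl i) := by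
    intro i hi
    simp only [F, finsetSum_coeff, coeff_monomial]
    rw [Finset.sum_ite_eq' (Finset.range (N + 1)) i, if_pos (by rw [Finset.mem_range]; omega)]
  have hG : ∀ i, i ≤ N → G.coeff i = MvPolynomial.X (Sum.inr i) := by
    intro i hi
    simp only [G, finsetSum_coeff, coeff_monomial]
    rw [Finset.sum_ite_eq' (Finset.range (N + 1)) i, if_pos (by rw [Finset.mem_range]; omega)]
  let D : Subring U := Subring.closure (Set.range (F * G).coeff)
  have hint : IsIntegral D (F.coeff k * G.coeff l) := by
    have hinj : Function.Injective (algebraMap U K) := IsFractionRing.injective U K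
    rw [← isIntegral_algebraMap_iff (A := U) (B := K) hinj, map_mul, ← Polynomial.coeff_map,
      ← Polynomial.coeff_map]
    refine isIntegral_field _ _ (fun m => ?_) k l
    rw [← Polynomial.map_mul, Polynomial.coeff_map]
    have : (F * G).coeff m ∈ D := Subring.subset_closure ⟨m, rfl⟩
    exact (isIntegral_algebraMap (R := D) (x := (⟨(F * G).coeff m, this⟩ : D)) :
      IsIntegral D (algebraMap D K ⟨_, this⟩))
  -- specialization
  let φ : U →+* B := MvPolynomial.eval₂Hom (Int.castRingHom B) (Sum.elim f.coeff g.coeff)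
  have hφF : F.map φ = f := by
    ext i
    rw [Polynomial.coeff_map]
    by_cases hi : i ≤ N
    · rw [hF i hi]; exact MvPolynomial.eval₂Hom_X' _ _ _
    · have h1 : F.coeff i = 0 := by
        simp only [F, finsetSum_coeff, coeff_monomial]
        rw [Finset.sum_ite_eq' (Finset.range (N + 1)) i, if_neg (by rw [Finset.mem_range]; omega)]
      rw [h1, map_zero, Polynomial.coeff_eq_zero_of_natDegree_lt]
      have : f.natDegree ≤ N := (le_max_left _ _).trans (le_max_left _ _)
      omega
  have hφG : G.map φ = g := by
    ext i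
    rw [Polynomial.coeff_map]
    by_cases hi : i ≤ N
    · rw [hG i hi]; exact MvPolynomial.eval₂Hom_X' _ _ _
    · have h1 : G.coeff i = 0 := by
        simp only [G, finsetSum_coeff, coeff_monomial]
        rw [Finset.sum_ite_eq' (Finset.range (N + 1)) i, if_neg (by rw [Finset.mem_range]; omega)]
      rw [h1, map_zero, Polynomial.coeff_eq_zero_of_natDegree_lt]
      have : g.natDegree ≤ N := (le_max_right _ _).trans (le_max_left _ _)
      omega
  have hD : D ≤ (algebraMap A B).range.comap φ := by
    rw [Subring.closure_le]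
    rintro _ ⟨m, rfl⟩
    change φ ((F * G).coeff m) ∈ (algebraMap A B).range
    rw [← Polynomial.coeff_map, Polynomial.map_mul, hφF, hφG]
    exact hfg m
  have h1 : IsIntegral (algebraMap A B).range (φ (F.coeff k * G.coeff l)) := by
    let φD : D →+* (algebraMap A B).range :=
      (φ.comp D.subtype).codRestrict _ (fun x => hD x.2)
    exact hint.map_of_comp_eq φD φ rfl
  have h2 : φ (F.coeff k * G.coeff l) = f.coeff k * g.coeff l := by
    rw [map_mul, ← Polynomial.coeff_map, ← Polynomial.coeff_map, hφF, hφG]
  rw [h2] at h1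
  obtain ⟨p, hp, hp0⟩ := h1
  -- lift the monic polynomial
  have hsurj : Function.Surjective (algebraMap A B).rangeRestrict := (algebraMap A B).rangeRestrict_surjective
  obtain ⟨q, hq, -, hqm⟩ := Polynomial.lifts_and_natDegree_eq_and_monic
    ((Polynomial.mem_lifts p).mpr (Polynomial.map_surjective _ hsurj p)) hp
  refine ⟨q, hqm, ?_⟩
  rw [← hq, Polynomial.eval₂_map] at hp0
  exact hp0

end K88.Kronecker
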