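import Groth.Agent.CAlg.K88.Taylor
import Groth.Agent.Hensel.MvHensel
import Groth.Agent.CalgB.HensPair
import Mathlib.RingTheory.Nakayama

/-!
# Newton's lemma over a henselian pair, non complete intersection version

`(A, tA)` henselian, `f = (f_1, …, f_q)` polynomials in `n` variables, and matrices `K` (`n × q`), `M`
(`q × q`, entries in the ideal `(f)`) with `T f = (D K + M) f`, `D` the Jacobian matrix, `T = t^h`.
If `f(a) ∈ T² t^s A^q`, `s ≥ 1`, there is `a'` with `a' ≡ a mod T t^s`, `f(a') ∈ T t^s A^q` and
`T f(a') = 0`.
-/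

set_option autoImplicit false

open MvPolynomial

namespace K88.NewtonHensel

universe u

variable {A : Type u} [CommRing A]

/-- the square system attached to the data, its linear part. -/
theorem exists_system {n q : ℕ} (T : A) (f : Fin q → MvPolynomial (Fin n) A)
    (K : Fin n → Fin q → MvPolynomial (Fin n) A) (a : Fin n → A) :
    ∃ H : Fin q → MvPolynomial (Fin q) A,
      (∀ i, H i ∈ (Ideal.span (Set.range (X : Fin q → MvPolynomial (Fin q) A))) ^ 2) ∧
      ∀ (y : Fin q → A) (i : Fin q),
        eval (fun k => a k + T * ∑ l, eval a (K k l) * y l) (f i) +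
          T * (T * y i - ∑ j, eval (fun k => a k + T * ∑ l, eval a (K k l) * y l)
            (∑ k, pderiv k (f i) * K k j) * y j) =
        eval a (f i) + T ^ 2 * (y i + eval y (H i)) := by
  classical
  let I : Ideal (MvPolynomial (Fin q) A) :=
    Ideal.span (Set.range (X : Fin q → MvPolynomial (Fin q) A))
  let b : Fin n → MvPolynomial (Fin q) A := fun k => C (a k)
  let c : Fin n → MvPolynomial (Fin q) A := fun k => ∑ l, C (eval a (K k l)) * X l
  have hc : ∀ k, c k ∈ I := fun k =>
    Submodule.sum_mem _ fun l _ => Ideal.mul_mem_left _ _ (Ideal.subset_span ⟨l, rfl⟩)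
  choose r hr hr' using fun i : Fin q => K88.Taylor.taylor_two I b c (C T) hc (f i)
  choose s hs hs' using fun (i j : Fin q) =>
    K88.Taylor.taylor_one I b c (C T) hc (∑ k, pderiv k (f i) * K k j)
  refine ⟨fun i => r i - ∑ j, s i j * X j, ?_, ?_⟩
  · intro i
    refine Ideal.sub_mem _ (hr i) (Submodule.sum_mem _ fun j _ => ?_)
    rw [pow_two]
    exact Ideal.mul_mem_mul (hs i j) (Ideal.subset_span ⟨j, rfl⟩)
  · intro y i
    -- evaluate the Taylor formulas at `y`
    have hev : ∀ F : MvPolynomial (Fin n) A, eval y (aeval (fun k => b k + C T * c k) F) =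
        eval (fun k => a k + T * ∑ l, eval a (K k l) * y l) F := by
      intro F
      have h1 : (eval y : MvPolynomial (Fin q) A →+* A).comp (aeval (fun k => b k + C T * c k) :
          MvPolynomial (Fin n) A →ₐ[A] MvPolynomial (Fin q) A).toRingHom =
          eval (fun k => a k + T * ∑ l, eval a (K k l) * y l) := by
        apply MvPolynomial.ringHom_ext
        · intro r
          simp [MvPolynomial.algebraMap_eq]
        · intro k
          simp [b, c]
      exact congrArg (fun g => g F) h1
    have hb : ∀ F : MvPolynomial (Fin n) A, eval y (aeval b F) = eval a F := by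
      intro F
      have h1 : (eval y : MvPolynomial (Fin q) A →+* A).comp
          (aeval b : MvPolynomial (Fin n) A →ₐ[A] MvPolynomial (Fin q) A).toRingHom = eval a := by
        apply MvPolynomial.ringHom_ext
        · intro r
          simp [MvPolynomial.algebraMap_eq]
        · intro k
          simp [b]
      exact congrArg (fun g => g F) h1
    have h2 := congrArg (eval y) (hr' i)
    rw [hev, map_add, map_add, hb, map_mul, map_mul, map_pow, eval_C, map_sum] at h2
    have h3 : ∀ j, eval (fun k => a k + T * ∑ l, eval a (K k l) * y l)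
        (∑ k, pderiv k (f i) * K k j) = eval a (∑ k, pderiv k (f i) * K k j) + T * eval y (s i j) := by
      intro j
      have := congrArg (eval y) (hs' i j)
      rw [hev, map_add, hb, map_mul, eval_C] at this
      exact this
    rw [h2]
    simp only [h3]
    have h4 : ∑ k, eval y (c k * aeval b (pderiv k (f i))) =
        ∑ j, eval a (∑ k, pderiv k (f i) * K k j) * y j := by
      have : ∀ k, eval y (c k * aeval b (pderiv k (f i))) =
          ∑ l, eval a (pderiv k (f i)) * eval a (K k l) * y l := by
        intro k
        rw [map_mul, hb]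
        simp only [c, map_sum, map_mul, eval_C, eval_X]
        rw [Finset.sum_mul]
        refine Finset.sum_congr rfl fun l _ => ?_
        ring
      rw [Finset.sum_congr rfl fun k _ => this k, Finset.sum_comm]
      refine Finset.sum_congr rfl fun j _ => ?_
      rw [map_sum, Finset.sum_mul]
      refine Finset.sum_congr rfl fun k _ => ?_
      rw [map_mul]
    rw [h4, map_sub, map_sum]
    simp only [add_mul, map_mul, eval_X, Finset.sum_add_distrib]
    have h5 : ∑ j, T * eval y (s i j) * y j = T * ∑ j, eval y (s i j) * y j := by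
      rw [Finset.mul_sum]
      refine Finset.sum_congr rfl fun j _ => ?_
      ring
    rw [h5]
    ring

/-- the Jacobian at `0` of a system `ε_i + y_i + H_i` with `H_i` of order two. -/
theorem eval_jac_zero {q : ℕ} (ε : Fin q → A) (H : Fin q → MvPolynomial (Fin q) A)
    (hH : ∀ i, H i ∈ (Ideal.span (Set.range (X : Fin q → MvPolynomial (Fin q) A))) ^ 2) :
    (eval (0 : Fin q → A) : MvPolynomial (Fin q) A →+* A).mapMatrix
      (Groth.Agent.Hensel.MvHensel.jac fun i => C (ε i) + X i + H i) = 1 := by
  classical
  have h0 : ∀ F ∈ Ideal.span (Set.range (X : Fin q → MvPolynomial (Fin q) A)),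
      eval (0 : Fin q → A) F = 0 := by
    intro F hF
    have : Ideal.span (Set.range (X : Fin q → MvPolynomial (Fin q) A)) ≤
        RingHom.ker (eval (0 : Fin q → A)) := by
      rw [Ideal.span_le]
      rintro _ ⟨i, rfl⟩
      simp
    exact this hF
  have h1 : ∀ (k : Fin q), ∀ F ∈ (Ideal.span (Set.range (X : Fin q → MvPolynomial (Fin q) A))) ^ 2,
      eval (0 : Fin q → A) (pderiv k F) = 0 := by
    intro k F hF
    rw [pow_two] at hF
    refine Submodule.mul_induction_on hF ?_ ?_
    · intro a ha b hb
      rw [Derivation.leibniz, smul_eq_mul, smul_eq_mul, map_add, map_mul, map_mul, h0 a ha,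
        h0 b hb]
      ring
    · intro a b ha hb
      rw [map_add, map_add, ha, hb, add_zero]
  ext i j
  rw [RingHom.mapMatrix_apply, Matrix.map_apply]
  change eval 0 (pderiv i (C (ε j) + X j + H j)) = _
  rw [map_add, map_add, map_add, map_add, h1 i (H j) (hH j), pderiv_C, pderiv_X]
  by_cases hij : i = j
  · subst hij; simp
  · rw [Pi.single_eq_of_ne (Ne.symm hij), Matrix.one_apply_ne hij]
    simp

/-- **Newton's lemma.** -/
theorem newton {n q : ℕ} (t : A) [hA : HenselianRing A (Ideal.span {t})] (h : ℕ)
    (f : Fin q → MvPolynomial (Fin n) A)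
    (K : Fin n → Fin q → MvPolynomial (Fin n) A) (M : Fin q → Fin q → MvPolynomial (Fin n) A)
    (hM : ∀ i j, M i j ∈ Ideal.span (Set.range f))
    (hrel : ∀ i, C (t ^ h) * f i = ∑ j, (∑ k, pderiv k (f i) * K k j + M i j) * f j)
    (s : ℕ) (hs : 1 ≤ s) (a : Fin n → A) (ha : ∀ i, t ^ (2 * h + s) ∣ eval a (f i)) :
    ∃ a' : Fin n → A, (∀ i, t ^ (h + s) ∣ a' i - a i) ∧ (∀ i, t ^ (h + s) ∣ eval a' (f i)) ∧
      ∀ i, t ^ h * eval a' (f i) = 0 := by
  classical
  set T : A := t ^ h with hT
  choose ε hε using ha
  obtain ⟨H, hH, hsys⟩ := exists_system T f K a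
  -- solve the system modulo `t^s`
  have hAs : HenselianRing A (Ideal.span {t ^ s}) :=
    Groth.Agent.CalgB.HensPair.henselian_of_le hA (by
      rw [Ideal.span_singleton_le_span_singleton]
      exact dvd_pow_self t (by omega))
  obtain ⟨y, hy0, hymem⟩ := Groth.Agent.Hensel.MvHensel.exists_root (I := Ideal.span {t ^ s})
    (fun i => C (t ^ s * ε i) + X i + H i) 0 (by
      intro i
      rw [map_add, map_add, eval_C, eval_X]
      have : eval (0 : Fin q → A) (H i) = 0 := by
        have h1 : Ideal.span (Set.range (X : Fin q → MvPolynomial (Fin q) A)) ≤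
            RingHom.ker (eval (0 : Fin q → A)) := by
          rw [Ideal.span_le]
          rintro _ ⟨i, rfl⟩
          simp
        exact h1 (Ideal.pow_le_self two_ne_zero (hH i))
      rw [this, Pi.zero_apply, add_zero, add_zero, Ideal.mem_span_singleton]
      exact Dvd.intro _ rfl) (by
      rw [RingHom.map_det, eval_jac_zero _ H hH, Matrix.det_one, map_one]
      exact isUnit_one)
  have hydvd : ∀ i, t ^ s ∣ y i := by
    intro i
    have := hymem i
    rw [Pi.zero_apply, sub_zero, Ideal.mem_span_singleton] at this
    exact this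
  set a' : Fin n → A := fun k => a k + T * ∑ l, eval a (K k l) * y l with ha'
  set P : Fin q → Fin q → A := fun i j => eval a' (∑ k, pderiv k (f i) * K k j) with hP
  -- the basic relation
  have hfa' : ∀ i, eval a' (f i) = -(T * (T * y i - ∑ j, P i j * y j)) := by
    intro i
    have h1 := hsys y i
    have h2 : t ^ (2 * h + s) * ε i + T ^ 2 * (y i + eval y (H i)) = 0 := by
      have h3 := hy0 i
      simp only [map_add, eval_C, eval_X] at h3
      have h4 : t ^ (2 * h + s) = T ^ 2 * t ^ s := by rw [hT]; ring
      rw [h4]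
      linear_combination T ^ 2 * h3
    rw [hε i, h2] at h1
    linear_combination h1
  let F : Ideal A := Ideal.span (Set.range fun i => eval a' (f i))
  have hFmem : ∀ g ∈ Ideal.span (Set.range f), eval a' g ∈ F := by
    intro g hg
    have : Ideal.span (Set.range f) ≤ F.comap (eval a') := by
      rw [Ideal.span_le]
      rintro _ ⟨i, rfl⟩
      exact Ideal.subset_span ⟨i, rfl⟩
    exact this hg
  -- the relation `T f = (P + M) f` at `a'`
  have hrel' : ∀ i, T * eval a' (f i) = ∑ j, (P i j + eval a' (M i j)) * eval a' (f j) := by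
    intro i
    have := congrArg (eval a') (hrel i)
    rw [map_mul, eval_C, map_sum] at this
    rw [this]
    refine Finset.sum_congr rfl fun j _ => ?_
    rw [map_mul, map_add]
  -- `P² - T P` has entries in the ideal `F`
  have hN : ∀ i j, (∑ l, P i l * P l j) - T * P i j ∈ F := by
    intro i j
    -- differentiate the relation
    have hD : ∀ k, T * eval a' (pderiv k (f i)) - ∑ l, P i l * eval a' (pderiv k (f l)) ∈ F := by
      intro k
      have h1 := congrArg (fun g => eval a' (pderiv k g)) (hrel i)
      have h2 : ∀ j, eval a' (pderiv k ((∑ k, pderiv k (f i) * K k j + M i j) * f j)) =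
          (P i j + eval a' (M i j)) * eval a' (pderiv k (f j)) +
            eval a' (f j) * eval a' (pderiv k (∑ k, pderiv k (f i) * K k j + M i j)) := by
        intro j
        rw [Derivation.leibniz, smul_eq_mul, smul_eq_mul, map_add, map_mul, map_mul,
          map_add (eval a') (∑ k, pderiv k (f i) * K k j) (M i j)]
      have h3 : eval a' (pderiv k (C T * f i)) = T * eval a' (pderiv k (f i)) := by
        rw [Derivation.leibniz, pderiv_C, smul_zero, add_zero, smul_eq_mul, map_mul, eval_C]
      rw [h3, map_sum, map_sum] at h1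
      rw [h1]
      have h4 : (∑ j, eval a' (pderiv k ((∑ k, pderiv k (f i) * K k j + M i j) * f j))) -
          ∑ l, P i l * eval a' (pderiv k (f l)) =
          ∑ j, (eval a' (M i j) * eval a' (pderiv k (f j)) +
            eval a' (f j) * eval a' (pderiv k (∑ k, pderiv k (f i) * K k j + M i j))) := by
        rw [← Finset.sum_sub_distrib]
        refine Finset.sum_congr rfl fun j _ => ?_
        rw [h2]
        ring
      rw [h4]
      refine Submodule.sum_mem _ fun j _ => Ideal.add_mem _ ?_ ?_
      · exact Ideal.mul_mem_right _ _ (hFmem _ (hM i j))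
      · exact Ideal.mul_mem_right _ _ (Ideal.subset_span ⟨j, rfl⟩)
    have h5 : (∑ l, P i l * P l j) - T * P i j = -∑ k, eval a' (K k j) *
        (T * eval a' (pderiv k (f i)) - ∑ l, P i l * eval a' (pderiv k (f l))) := by
      have h6 : ∀ l, P l j = ∑ k, eval a' (pderiv k (f l)) * eval a' (K k j) := by
        intro l
        change eval a' (∑ k, pderiv k (f l) * K k j) = _
        rw [map_sum]
        simp only [map_mul]
      rw [h6 i]
      simp only [h6 _, mul_sub, Finset.sum_sub_distrib, Finset.mul_sum]
      rw [Finset.sum_comm]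
      have h7 : ∀ (k : Fin n) (l : Fin q), P i l * (eval a' (pderiv k (f l)) * eval a' (K k j)) =
          eval a' (K k j) * (P i l * eval a' (pderiv k (f l))) := fun k l => by ring
      have h8 : ∀ (k : Fin n), T * (eval a' (pderiv k (f i)) * eval a' (K k j)) =
          eval a' (K k j) * (T * eval a' (pderiv k (f i))) := fun k => by ring
      simp only [h7, h8]
      ring
    rw [h5]
    exact neg_mem (Submodule.sum_mem _ fun k _ => Ideal.mul_mem_left _ _ (hD k))
  -- `w` and divisibility
  set w : Fin q → A := fun i => T * y i - ∑ j, P i j * y j with hw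
  have hwdvd : ∀ i, t ^ s ∣ w i := fun i =>
    dvd_sub (Dvd.dvd.mul_left (hydvd i) _)
      (Finset.dvd_sum fun j _ => Dvd.dvd.mul_left (hydvd j) _)
  have hfw : ∀ i, eval a' (f i) = -(T * w i) := hfa'
  let G : Ideal A := Ideal.span (Set.range fun i => T * eval a' (f i))
  have hTF : ∀ x ∈ F, T * x ∈ G := by
    intro x hx
    have : F ≤ Submodule.comap (LinearMap.mulLeft A T) G := by
      refine Submodule.span_le.mpr ?_
      rintro _ ⟨i, rfl⟩
      exact Ideal.subset_span ⟨i, rfl⟩
    exact this hx
  have htdvd : ∀ {x : A}, t ^ s ∣ x → x ∈ Ideal.span {t} := fun {x} hx =>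
    Ideal.mem_span_singleton.mpr ((dvd_pow_self t (by omega)).trans hx)
  have hG : G ≤ Ideal.span {t} • G := by
    rw [Submodule.span_le]
    rintro _ ⟨i, rfl⟩
    rw [SetLike.mem_coe]
    change T * eval a' (f i) ∈ _
    have e1 : T * eval a' (f i) =
        (∑ l, y l * (T * ((∑ j, P i j * P j l) - T * P i l))) -
          ∑ j, w j * (T * eval a' (M i j)) := by
      rw [hrel' i]
      simp only [add_mul, Finset.sum_add_distrib]
      have e2 : ∑ j, P i j * eval a' (f j) =
          ∑ l, y l * (T * ((∑ j, P i j * P j l) - T * P i l)) := by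
        have e3 : ∀ j, P i j * eval a' (f j) =
            T * (∑ l, P i j * P j l * y l) - T * (T * (P i j * y j)) := by
          intro j
          rw [hfw j]
          simp only [hw, Finset.mul_sum, mul_sub]
          have : ∀ l, T * (P i j * P j l * y l) = P i j * (T * (P j l * y l)) := fun l => by ring
          simp only [this, ← Finset.mul_sum]
          ring
        simp only [e3, Finset.sum_sub_distrib, ← Finset.mul_sum]
        rw [Finset.sum_comm]
        have e4 : ∀ l, y l * (T * ((∑ j, P i j * P j l) - T * P i l)) =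
            T * (∑ j, P i j * P j l * y l) - T * (T * (P i l * y l)) := by
          intro l
          rw [← Finset.sum_mul]
          ring
        simp only [e4, Finset.sum_sub_distrib, ← Finset.mul_sum]
      rw [e2]
      have e5 : ∑ j, eval a' (M i j) * eval a' (f j) = -∑ j, w j * (T * eval a' (M i j)) := by
        rw [← Finset.sum_neg_distrib]
        refine Finset.sum_congr rfl fun j _ => ?_
        rw [hfw j]
        ring
      rw [e5]
      ring
    rw [e1]
    refine sub_mem (Submodule.sum_mem _ fun l _ => ?_) (Submodule.sum_mem _ fun j _ => ?_)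
    · exact Submodule.smul_mem_smul (htdvd (hydvd l)) (hTF _ (hN i l))
    · exact Submodule.smul_mem_smul (htdvd (hwdvd j)) (hTF _ (hFmem _ (hM i j)))
  have hG0 : G = ⊥ := by
    refine Submodule.eq_bot_of_le_smul_of_le_jacobson_bot (Ideal.span {t}) G ?_ hG hA.jac
    exact Submodule.fg_span (Set.finite_range _)
  refine ⟨a', ?_, ?_, ?_⟩
  · intro k
    have : a' k - a k = T * ∑ l, eval a (K k l) * y l := by
      simp only [ha']; ring
    rw [this, pow_add]
    exact mul_dvd_mul (dvd_of_eq rfl) (Finset.dvd_sum fun l _ => Dvd.dvd.mul_left (hydvd l) _)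
  · intro i
    rw [hfw i, pow_add, dvd_neg]
    exact mul_dvd_mul (dvd_of_eq rfl) (hwdvd i)
  · intro i
    have : T * eval a' (f i) ∈ G := Ideal.subset_span ⟨i, rfl⟩
    rw [hG0] at this
    exact this

end K88.NewtonHensel
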