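import Groth.Agent.Proet.IndAlg
import Mathlib.Algebra.Category.CommAlgCat.Basic
import Mathlib.CategoryTheory.Limits.Preserves.Filtered
import Mathlib.CategoryTheory.Limits.Types.Filtered
import Mathlib.RingTheory.Smooth.Basic

/-!
# Functors commuting with filtered colimits and ind-`P` algebras

`IndAlg P A B` in terms of `CommAlgCat A`, and the two basic facts on elements of `F(B)`.
-/

set_option autoImplicit false
universe u

open CategoryTheory CategoryTheory.Limits Groth.Agent.Proet

namespace K88.SmoothColim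

variable {A : Type u} [CommRing A]

/-- `IndAlg P A B` in terms of `CommAlgCat A`. -/
theorem indAlg_commAlgCat (P : AlgProp.{u}) (B : Type u) [CommRing B] [Algebra A B]
    (h : IndAlg P A B) : ∃ (J : Type u) (_ : SmallCategory J) (_ : IsFiltered J)
      (D : J ⥤ CommAlgCat.{u} A) (c : Cocone D) (_ : IsColimit c),
      (∀ j, P A (D.obj j)) ∧ Nonempty (c.pt ≅ CommAlgCat.of A B) := by
  obtain ⟨J, _, _, D, c, hc, hD, ⟨e⟩⟩ := h
  let E := commAlgCatEquivUnder (CommRingCat.of A)
  refine ⟨J, inferInstance, inferInstance, D ⋙ E.inverse, E.inverse.mapCocone c,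
    isColimitOfPreserves E.inverse hc, hD, ⟨?_⟩⟩
  let i₀ : E.inverse.obj (E.functor.obj (CommAlgCat.of A B)) ≅ CommAlgCat.of A B :=
    (E.unitIso.app _).symm
  let i₁ : E.functor.obj (CommAlgCat.of A B) ≅
      Under.mk (CommRingCat.ofHom (algebraMap A B)) := Under.isoMk (Iso.refl _) (by
        ext; rfl)
  exact E.inverse.mapIso (e ≪≫ i₁.symm) ≪≫ i₀

/-- Elements of `F(B)` for `B` ind-`P` over `A` and `F` commuting with filtered colimits. -/
theorem exists_of_indAlg (P : AlgProp.{u}) (B : Type u) [CommRing B] [Algebra A B]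
    (h : IndAlg P A B) (F : CommAlgCat.{u} A ⥤ Type u)
    [PreservesFilteredColimitsOfSize.{u, u} F] :
    (∀ y : F.obj (CommAlgCat.of A B), ∃ (C : Type u) (_ : CommRing C) (_ : Algebra A C)
        (v : C →ₐ[A] B) (z : F.obj (CommAlgCat.of A C)), P A C ∧
          F.map (CommAlgCat.ofHom v) z = y) ∧
    (∀ x x' : F.obj (CommAlgCat.of A A),
      F.map (CommAlgCat.ofHom (Algebra.ofId A B)) x =
        F.map (CommAlgCat.ofHom (Algebra.ofId A B)) x' →
      ∃ (C : Type u) (_ : CommRing C) (_ : Algebra A C) (_ : C →ₐ[A] B), P A C ∧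
        F.map (CommAlgCat.ofHom (Algebra.ofId A C)) x =
          F.map (CommAlgCat.ofHom (Algebra.ofId A C)) x') := by
  obtain ⟨J, _, _, D, c, hc, hD, ⟨i⟩⟩ := indAlg_commAlgCat P B h
  have hFc : IsColimit (F.mapCocone c) := isColimitOfPreserves F hc
  have hinit : ∀ {X : CommAlgCat.{u} A} (f g : CommAlgCat.of A A ⟶ X), f = g := by
    intro X f g
    ext
  refine ⟨?_, ?_⟩
  · intro y
    obtain ⟨j, z, hz⟩ := Types.jointly_surjective_of_isColimit hFc (F.map i.inv y)
    refine ⟨D.obj j, inferInstance, inferInstance, (c.ι.app j ≫ i.hom).hom, z, hD j, ?_⟩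
    change F.map (c.ι.app j ≫ i.hom) z = y
    rw [F.map_comp]
    change F.map i.hom ((F.mapCocone c).ι.app j z) = y
    rw [hz]
    have := congrArg (fun k => k y) (F.map_comp i.inv i.hom)
    rw [i.inv_hom_id, F.map_id] at this
    exact this.symm
  · intro x x' hxx
    obtain ⟨j₀⟩ : Nonempty J := IsFiltered.nonempty
    have h1 : (F.mapCocone c).ι.app j₀ (F.map (CommAlgCat.ofHom (Algebra.ofId A (D.obj j₀))) x) =
        (F.mapCocone c).ι.app j₀ (F.map (CommAlgCat.ofHom (Algebra.ofId A (D.obj j₀))) x') := by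
      have h2 : ∀ w, (F.mapCocone c).ι.app j₀
          (F.map (CommAlgCat.ofHom (Algebra.ofId A (D.obj j₀))) w) =
          F.map i.inv (F.map (CommAlgCat.ofHom (Algebra.ofId A B)) w) := by
        intro w
        change F.map (c.ι.app j₀) (F.map (CommAlgCat.ofHom (Algebra.ofId A (D.obj j₀))) w) = _
        have h3 := congrArg (fun k => k w)
          (F.map_comp (CommAlgCat.ofHom (Algebra.ofId A (D.obj j₀))) (c.ι.app j₀))
        have h4 := congrArg (fun k => k w) (F.map_comp (CommAlgCat.ofHom (Algebra.ofId A B)) i.inv)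
        refine h3.symm.trans (Eq.trans ?_ h4)
        congr 3
        exact hinit _ _
      rw [h2, h2, hxx]
    obtain ⟨k, f, g, hfg⟩ := (Types.FilteredColimit.isColimit_eq_iff _ hFc).mp h1
    refine ⟨D.obj k, inferInstance, inferInstance, (c.ι.app k ≫ i.hom).hom, hD k, ?_⟩
    have h5 : ∀ (w) (f : j₀ ⟶ k), (D ⋙ F).map f
        (F.map (CommAlgCat.ofHom (Algebra.ofId A (D.obj j₀))) w) =
        F.map (CommAlgCat.ofHom (Algebra.ofId A (D.obj k))) w := by
      intro w f
      change F.map (D.map f) (F.map (CommAlgCat.ofHom (Algebra.ofId A (D.obj j₀))) w) = _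
      have h3 := congrArg (fun k => k w)
        (F.map_comp (CommAlgCat.ofHom (Algebra.ofId A (D.obj j₀))) (D.map f))
      refine h3.symm.trans ?_
      congr 3
      exact hinit _ _
    rw [h5, h5] at hfg
    exact hfg

end K88.SmoothColim
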