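import Groth.Agent.CAlg.K88.ZarApprox

/-!
# Descent of stably free modules along a `ZarPair`

`ZarPair.exists_stablyFree`: a stably free `L'`-module is the base change of a stably free `L`-module.
-/

set_option autoImplicit false

open TensorProduct K88.Frames K88.ZarApprox

namespace K88.StablyFree

universe u v w

variable {L : Type u} {L' : Type v} [CommRing L] [CommRing L'] [Algebra L L']
  {S : Subring L'} {t : L'}

theorem exists_stablyFree (P : ZarPair L L' S t) (M' : Type w) [AddCommGroup M'] [Module L' M']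
    (n m : ℕ) (e : (M' × (Fin n → L')) ≃ₗ[L'] (Fin m → L')) :
    ∃ (M : Type u) (_ : AddCommGroup M) (_ : Module L M), Module.Finite L M ∧
      (∃ n m : ℕ, Nonempty ((M × (Fin n → L)) ≃ₗ[L] (Fin m → L))) ∧
      Nonempty (L' ⊗[L] M ≃ₗ[L'] M') := by
  classical
  let f' : (Fin m → L') →ₗ[L'] (Fin n → L') := (LinearMap.snd L' M' _) ∘ₗ e.symm.toLinearMap
  let g' : (Fin n → L') →ₗ[L'] (Fin m → L') := e.toLinearMap ∘ₗ LinearMap.inr L' M' _
  have hfg : f' ∘ₗ g' = LinearMap.id := by
    ext x i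
    simp [f', g']
  set A' := LinearMap.toMatrix' f' with hA'
  set B' := LinearMap.toMatrix' g' with hB'
  have hAB' : A' * B' = 1 := by
    rw [hA', hB', ← LinearMap.toMatrix'_comp, hfg, LinearMap.toMatrix'_id]
  obtain ⟨a, ha⟩ := P.exists_bound A'
  obtain ⟨b, hb⟩ := P.exists_bound B'
  obtain ⟨A, hA⟩ := P.exists_approx A' (1 + a + b)
  obtain ⟨B, hB⟩ := P.exists_approx B' (1 + a + b)
  set A₁ := A.map (algebraMap L L') with hA₁
  set B₁ := B.map (algebraMap L L') with hB₁
  have hAB : IsUnit (A * B).det := by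
    apply P.isUnit_det_of_map
    rw [Matrix.map_mul, ← hA₁, ← hB₁]
    have h1 : A₁ * B₁ - 1 = -((A' - A₁) * B') - A' * (B' - B₁) + (A' - A₁) * (B' - B₁) := by
      rw [← hAB']
      simp only [Matrix.sub_mul, Matrix.mul_sub]
      abel
    rw [h1]
    have s1 : (A' - A₁) * B' ∈ MFil S t 1 _ _ := P.mul_mem_MFil_right hb hA (by omega)
    have s2 : A' * (B' - B₁) ∈ MFil S t 1 _ _ := P.mul_mem_MFil_left ha hB (by omega)
    have s3 : (A' - A₁) * (B' - B₁) ∈ MFil S t 1 _ _ :=
      P.mul_mem_MFil_left (k := 0) (fun i j => by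
        obtain ⟨s, hs, h⟩ := mem_Fil.mp (Fil_anti P.t_mem (Nat.zero_le _) (hA i j))
        rw [h, pow_zero, one_mul, one_mul]
        exact hs) hB (by omega)
    exact add_mem (sub_mem (neg_mem s1) s2) s3
  have hABu : A * (B * (A * B)⁻¹) = 1 := by
    rw [← Matrix.mul_assoc]
    exact Matrix.mul_nonsing_inv _ hAB
  set C := B * (A * B)⁻¹ with hC
  -- the module
  let M := LinearMap.ker (Matrix.toLin' A)
  have hAC : ∀ w : Fin n → L, Matrix.toLin' A (Matrix.toLin' C w) = w := by
    intro w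
    rw [← LinearMap.comp_apply, ← Matrix.toLin'_mul, hABu, Matrix.toLin'_one]; rfl
  let ρ : (Fin m → L) →ₗ[L] M :=
    LinearMap.codRestrict M (LinearMap.id - Matrix.toLin' C ∘ₗ Matrix.toLin' A) (fun v => by
      rw [LinearMap.mem_ker, LinearMap.sub_apply, map_sub, LinearMap.comp_apply, hAC]
      simp)
  have hρ : ∀ v, ((ρ v : M) : Fin m → L) = v - Matrix.toLin' C (Matrix.toLin' A v) := fun v => rfl
  have hρM : ∀ x : M, ρ (x : Fin m → L) = x := by
    intro x
    apply Subtype.ext
    rw [hρ]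
    have : Matrix.toLin' A (x : Fin m → L) = 0 := x.2
    rw [this, map_zero, sub_zero]
  have hfin : Module.Finite L M := Module.Finite.of_surjective ρ (fun x => ⟨_, hρM x⟩)
  refine ⟨M, inferInstance, inferInstance, hfin, ⟨n, m, ⟨?_⟩⟩, ⟨?_⟩⟩
  · -- stably free
    refine LinearEquiv.ofLinearMap
      ((M.subtype ∘ₗ LinearMap.fst L M _) + (Matrix.toLin' C) ∘ₗ LinearMap.snd L M _)
      (ρ.prod (Matrix.toLin' A)) ?_ ?_
    · apply LinearMap.ext
      intro v
      change ((ρ v : M) : Fin m → L) + Matrix.toLin' C (Matrix.toLin' A v) = v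
      rw [hρ]
      abel
    · apply LinearMap.ext
      rintro ⟨x, y⟩
      have h0 : Matrix.toLin' A (x : Fin m → L) = 0 := x.2
      have h2 : Matrix.toLin' A ((x : Fin m → L) + Matrix.toLin' C y) = y := by
        rw [map_add, hAC, h0, zero_add]
      refine Prod.ext ?_ ?_
      · change ρ ((x : Fin m → L) + Matrix.toLin' C y) = x
        apply Subtype.ext
        rw [hρ, h2]
        abel
      · exact h2
  · -- base change
    let F : Frame L M m :=
      { vec := fun j => ρ (Pi.single j 1)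
        coord := fun j => (LinearMap.proj j) ∘ₗ M.subtype
        sum_coord := fun x => by
          conv_rhs => rw [← hρM x]
          have h2 : (x : Fin m → L) = ∑ j, ((x : Fin m → L) j) • (Pi.single j (1 : L) : Fin m → L) := by
            ext i
            simp [Finset.sum_apply, Pi.single_apply]
          conv_rhs => rw [h2]
          rw [map_sum]
          refine Finset.sum_congr rfl fun j _ => ?_
          rw [map_smul]
          rfl }
    let F' := F.baseChange L'
    have hE : mat F F LinearMap.id = 1 - C * A := by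
      ext i j
      change ((ρ (Pi.single j 1) : M) : Fin m → L) i = _
      rw [hρ, ← LinearMap.comp_apply, ← Matrix.toLin'_mul, Matrix.toLin'_apply, Pi.sub_apply,
        Matrix.mulVec_single_one, Matrix.sub_apply]
      simp [Matrix.one_apply, Pi.single_apply, Matrix.col]
    set C₁ := C.map (algebraMap L L') with hC₁
    have hE' : mat F' F' LinearMap.id = 1 - C₁ * A₁ := by
      rw [mat_baseChange_id, hE]
      have : (1 - C * A).map (algebraMap L L') =
          (1 : Matrix (Fin m) (Fin m) L).map (algebraMap L L') - (C * A).map (algebraMap L L') := by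
        ext i j
        rw [Matrix.map_apply, Matrix.sub_apply, map_sub, Matrix.sub_apply, Matrix.map_apply,
          Matrix.map_apply]
      rw [this, Matrix.map_one _ (map_zero _) (map_one _), Matrix.map_mul]
    let Φ : L' ⊗[L] M →ₗ[L'] (Fin m → L') := LinearMap.pi F'.coord
    let Ψ : (Fin m → L') →ₗ[L'] L' ⊗[L] M := ∑ j, (LinearMap.proj j).smulRight (F'.vec j)
    have hΨ : ∀ v, Ψ v = ∑ j, v j • F'.vec j := fun v => by
      simp [Ψ, LinearMap.sum_apply]
    have hΨΦ : ∀ x, Ψ (Φ x) = x := fun x => by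
      rw [hΨ]; exact F'.sum_coord x
    have hΦΨ : ∀ v, Φ (Ψ v) = Matrix.mulVec (1 - C₁ * A₁) v := by
      intro v
      rw [← hE', hΨ]
      ext i
      change F'.coord i (∑ j, v j • F'.vec j) = ∑ j, F'.coord i (F'.vec j) * v j
      rw [map_sum]
      refine Finset.sum_congr rfl fun j _ => ?_
      rw [map_smul, smul_eq_mul, mul_comm]
    have hA₁C₁ : A₁ * C₁ = 1 := by
      rw [hA₁, hC₁, ← Matrix.map_mul, hABu, Matrix.map_one _ (map_zero _) (map_one _)]
    have hAΦ : ∀ x, Matrix.mulVec A₁ (Φ x) = 0 := by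
      intro x
      have h1 : Φ x = Matrix.mulVec (1 - C₁ * A₁) (Φ x) := by
        rw [← hΦΨ, hΨΦ]
      rw [h1, Matrix.mulVec_mulVec, Matrix.mul_sub, ← Matrix.mul_assoc, hA₁C₁]
      simp
    -- the automorphism
    let α : Matrix (Fin m) (Fin m) L' := 1 - B' * (A' - A₁)
    have hα : A' * α = A₁ := by
      change A' * (1 - B' * (A' - A₁)) = A₁
      rw [Matrix.mul_sub, ← Matrix.mul_assoc, hAB', Matrix.mul_one, Matrix.one_mul]
      abel
    have hαu : IsUnit α.det := by
      apply P.isUnit_det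
      have : α - 1 = -(B' * (A' - A₁)) := by
        change (1 - B' * (A' - A₁)) - 1 = _
        abel
      rw [this]
      exact neg_mem (P.mul_mem_MFil_left hb hA (by omega))
    have hα1 : α * α⁻¹ = 1 := Matrix.mul_nonsing_inv _ hαu
    have hα2 : α⁻¹ * α = 1 := Matrix.nonsing_inv_mul _ hαu
    have hA'f : ∀ v, f' v = Matrix.mulVec A' v := by
      intro v
      rw [hA', ← Matrix.toLin'_apply, Matrix.toLin'_toMatrix']
    have hfe : ∀ v, f' v = (e.symm v).2 := fun v => rfl
    refine LinearEquiv.ofLinearMap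
      ((LinearMap.fst L' M' _) ∘ₗ e.symm.toLinearMap ∘ₗ Matrix.toLin' α ∘ₗ Φ)
      (Ψ ∘ₗ Matrix.toLin' α⁻¹ ∘ₗ e.toLinearMap ∘ₗ LinearMap.inl L' M' _) ?_ ?_
    · apply LinearMap.ext
      intro y
      change (e.symm (Matrix.toLin' α (Φ (Ψ (Matrix.toLin' α⁻¹ (e (y, 0))))))).1 = y
      have h1 : Matrix.mulVec A₁ (Matrix.mulVec α⁻¹ (e (y, 0))) = 0 := by
        rw [← hα, Matrix.mulVec_mulVec, Matrix.mul_assoc, hα1, Matrix.mul_one, ← hA'f, hfe]
        simp
      have h2 : Φ (Ψ (Matrix.toLin' α⁻¹ (e (y, 0)))) = Matrix.mulVec α⁻¹ (e (y, 0)) := by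
        rw [hΦΨ, Matrix.toLin'_apply, Matrix.sub_mulVec, Matrix.one_mulVec,
          ← Matrix.mulVec_mulVec (M := C₁), h1]
        simp
      rw [h2, Matrix.toLin'_apply, Matrix.mulVec_mulVec, hα1, Matrix.one_mulVec]
      simp
    · apply LinearMap.ext
      intro x
      change Ψ (Matrix.toLin' α⁻¹ (e ((e.symm (Matrix.toLin' α (Φ x))).1, 0))) = x
      have h1 : (e.symm (Matrix.toLin' α (Φ x))).2 = 0 := by
        rw [← hfe, hA'f, Matrix.toLin'_apply, Matrix.mulVec_mulVec, hα, hAΦ]
      have h2 : ((e.symm (Matrix.toLin' α (Φ x))).1, (0 : Fin n → L')) =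
          e.symm (Matrix.toLin' α (Φ x)) := by
        rw [← h1]
      rw [h2, LinearEquiv.apply_symm_apply, Matrix.toLin'_apply, Matrix.toLin'_apply,
        Matrix.mulVec_mulVec, hα2, Matrix.one_mulVec, hΨΦ]

end K88.StablyFree
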