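import Mathlib.Algebra.MvPolynomial.PDeriv
import Mathlib.RingTheory.Ideal.Operations

/-!
# Taylor's formula for polynomials in several variables, with remainder in `u² I²`
-/

set_option autoImplicit false

open MvPolynomial

namespace K88.Taylor

variable {A S κ : Type*} [CommRing A] [CommRing S] [Algebra A S] [Fintype κ]

/-- First order Taylor formula. -/
theorem taylor_two (I : Ideal S) (b c : κ → S) (u : S) (hc : ∀ k, c k ∈ I)
    (F : MvPolynomial κ A) :
    ∃ r ∈ I ^ 2, aeval (fun k => b k + u * c k) F =
      aeval b F + u * (∑ k, c k * aeval b (pderiv k F)) + u ^ 2 * r := by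
  classical
  induction F using MvPolynomial.induction_on with
  | C a => exact ⟨0, Ideal.zero_mem _, by simp⟩
  | add p q hp hq =>
    obtain ⟨r, hr, h1⟩ := hp
    obtain ⟨s, hs, h2⟩ := hq
    refine ⟨r + s, Ideal.add_mem _ hr hs, ?_⟩
    rw [map_add, h1, h2]
    simp only [map_add, mul_add, Finset.sum_add_distrib]
    ring
  | mul_X p j hp =>
    obtain ⟨r, hr, h1⟩ := hp
    have hsum : (∑ k, c k * aeval b (pderiv k p)) ∈ I :=
      Submodule.sum_mem _ fun k _ => Ideal.mul_mem_right _ _ (hc k)
    refine ⟨r * (b j + u * c j) + (∑ k, c k * aeval b (pderiv k p)) * c j,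
      Ideal.add_mem _ (Ideal.mul_mem_right _ _ hr) ?_, ?_⟩
    · rw [pow_two]
      exact Ideal.mul_mem_mul hsum (hc j)
    · rw [map_mul, h1, aeval_X]
      have h3 : ∑ k, c k * aeval b (pderiv k (p * X j)) =
          (∑ k, c k * aeval b (pderiv k p)) * b j + aeval b p * c j := by
        have : ∀ k, c k * aeval b (pderiv k (p * X j)) =
            c k * aeval b (pderiv k p) * b j + (if k = j then aeval b p * c k else 0) := by
          intro k
          rw [Derivation.leibniz, smul_eq_mul, smul_eq_mul, pderiv_X]
          simp only [map_add, map_mul, aeval_X]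
          by_cases hkj : k = j
          · subst hkj
            simp
            ring
          · simp [hkj]
            ring
        rw [Finset.sum_congr rfl fun k _ => this k, Finset.sum_add_distrib, ← Finset.sum_mul]
        simp
      rw [h3, map_mul, aeval_X]
      ring

/-- Zeroth order Taylor formula. -/
theorem taylor_one (I : Ideal S) (b c : κ → S) (u : S) (hc : ∀ k, c k ∈ I)
    (F : MvPolynomial κ A) :
    ∃ r ∈ I, aeval (fun k => b k + u * c k) F = aeval b F + u * r := by
  obtain ⟨r, hr, h⟩ := taylor_two I b c u hc F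
  refine ⟨(∑ k, c k * aeval b (pderiv k F)) + u * r, ?_, ?_⟩
  · refine Ideal.add_mem _ (Submodule.sum_mem _ fun k _ => Ideal.mul_mem_right _ _ (hc k)) ?_
    exact Ideal.mul_mem_left _ _ (Ideal.pow_le_self two_ne_zero hr)
  · rw [h]; ring

end K88.Taylor
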