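import Groth.Agent.CAlg.K88.Kronecker
import Groth.Agent.Sga7.H598.PicPoly

/-!
# Traverso's theorem without Noetherian hypotheses

`exists_generator`: `A` a seminormal ring, `P` an invertible `A[X]`-module whose reduction modulo `X` is
trivialized by `ψ`.  Then `P` has a generator `e` with `ψ e = 1`. (The Noetherian case is
`Sga7.H598.PicPoly`; the arguments below are the same, with Kronecker's theorem in place of the finiteness
of the set of minimal primes.)
-/

set_option autoImplicit false

universe u

open Polynomial TensorProduct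

namespace K88.Traverso

open Groth.Agent.Sga7.H598.SNDef Groth.Agent.Sga7.H598.Kron Groth.Agent.Sga7.H598.Conduct
open Groth.Agent.Sga7.H598.PicPoly

section Cond

variable {R B : Type*} [CommRing R] [CommRing B] [Algebra R B]

/-- The fibre over a minimal prime of the conductor is reduced. -/
theorem isReduced_fiber [IsReduced B] (hinj : Function.Injective (algebraMap R B))
    (hR : SN R) (p : Ideal R) (hp : p ∈ ((cond R B).comap (algebraMap R B)).minimalPrimes) [p.IsPrime] :
    IsReduced (p.ResidueField ⊗[R] B) := by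
  have hrad := isRadical_cond hinj hR
  have hmin := exists_mul_mem_of_minimal (hrad.comap (algebraMap R B)) hp
  -- elements of `p B` multiplied by some `t'` are in the conductor
  have hpB : ∀ x ∈ p.map (algebraMap R B), ∃ t' ∉ p, algebraMap R B t' * x ∈ cond R B := by
    intro x hx
    rw [Ideal.map] at hx
    induction hx using Submodule.span_induction with
    | mem y hy =>
      obtain ⟨r, hr, rfl⟩ := hy
      obtain ⟨t, ht, htr⟩ := hmin r hr
      exact ⟨t, ht, by rw [← map_mul]; exact htr⟩
    | zero => exact ⟨1, fun h => (Ideal.ne_top_iff_one p).mp (Ideal.IsPrime.ne_top ‹_›) h, by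
        rw [mul_zero]; exact zero_mem _⟩
    | add y z _ _ hy hz =>
      obtain ⟨t, ht, h1⟩ := hy
      obtain ⟨t', ht', h2⟩ := hz
      refine ⟨t * t', Ideal.IsPrime.mul_notMem ‹_› ht ht', ?_⟩
      rw [mul_add]
      refine add_mem ?_ ?_
      · rw [map_mul, mul_comm (algebraMap R B t), mul_assoc]; exact Ideal.mul_mem_left _ _ h1
      · rw [map_mul, mul_assoc]; exact Ideal.mul_mem_left _ _ h2
    | smul a y _ hy =>
      obtain ⟨t, ht, h1⟩ := hy
      exact ⟨t, ht, by rw [smul_eq_mul, mul_left_comm]; exact Ideal.mul_mem_left _ _ h1⟩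
  -- scalars outside `p` are invertible on the fibre
  have hinv : ∀ r ∉ p, ∀ x : p.ResidueField ⊗[R] B, r • x = 0 → x = 0 := by
    intro r hr x hx
    have hr' : algebraMap R p.ResidueField r ≠ 0 := by
      rwa [Ne, Ideal.algebraMap_residueField_eq_zero]
    rw [← algebraMap_smul p.ResidueField r x] at hx
    exact (smul_eq_zero.mp hx).resolve_left hr'
  rw [isReduced_iff_pow_one_lt 2 one_lt_two]
  intro x hx
  obtain ⟨r, hr, s, hs⟩ := Ideal.Fiber.exists_smul_eq_one_tmul p x
  apply hinv r hr
  rw [hs]
  have h1 : (1 : p.ResidueField) ⊗ₜ[R] (s ^ 2) = 0 := by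
    have : (1 : p.ResidueField) ⊗ₜ[R] (s ^ 2) = ((1 : p.ResidueField) ⊗ₜ[R] s) ^ 2 := by
      rw [Algebra.TensorProduct.tmul_pow, one_pow]
    rw [this, ← hs, smul_pow, hx, smul_zero]
  obtain ⟨t, ht, htm⟩ := exists_of_tmul_eq_zero p _ h1
  obtain ⟨t', ht', ht'm⟩ := hpB _ htm
  have h2 : algebraMap R B (t' * t) * s ∈ cond R B := by
    refine hrad ⟨2, ?_⟩
    have e : (algebraMap R B (t' * t) * s) ^ 2 =
        algebraMap R B (t' * t) * (algebraMap R B t' * t • s ^ 2) := by
      rw [Algebra.smul_def, map_mul]; ring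
    rw [e]
    exact Ideal.mul_mem_left _ _ ht'm
  obtain ⟨r', hr', hr's⟩ := exists_of_mem_cond h2
  have h3 : (t' * t) • ((1 : p.ResidueField) ⊗ₜ[R] s) = 0 := by
    rw [← TensorProduct.tmul_smul, Algebra.smul_def, ← hr's, Algebra.algebraMap_eq_smul_one,
      ← TensorProduct.smul_tmul, Algebra.smul_def, mul_one,
      (Ideal.algebraMap_residueField_eq_zero).mpr (hp.le hr'), TensorProduct.zero_tmul]
  exact hinv _ (Ideal.IsPrime.mul_notMem ‹_› ht' ht) _ h3

end Cond

section Main

variable {R B : Type*} [CommRing R] [CommRing B] [Algebra R B]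

theorem surjective_of_finite [Module.Finite R B] [IsReduced B]
    (hinj : Function.Injective (algebraMap R B)) (hR : SN R) {ι : Type*} (s : Finset ι)
    (f g : ι → B[X]) (m : ι → ι → R[X]) (hm : ∀ i j, f i * g j = (m i j).map (algebraMap R B))
    (f0 g0 : ι → R) (hf0 : ∀ i, (f i).coeff 0 = algebraMap R B (f0 i))
    (hg0 : ∀ i, (g i).coeff 0 = algebraMap R B (g0 i)) (h1 : ∑ i ∈ s, f i * g i = 1)
    (hgen : Algebra.adjoin R (coeffs s f g) = ⊤) : Function.Surjective (algebraMap R B) := by
  by_contra hns
  -- the conductor is a proper ideal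
  have hne : (cond R B).comap (algebraMap R B) ≠ ⊤ := by
    intro htop
    apply hns
    intro b
    have h2 : (1 : R) ∈ (cond R B).comap (algebraMap R B) := htop ▸ Submodule.mem_top
    rw [Ideal.mem_comap, map_one] at h2
    obtain ⟨r, hr⟩ := h2 b
    exact ⟨r, by rw [hr, one_mul]⟩
  obtain ⟨p, hp⟩ := Ideal.nonempty_minimalPrimes hne
  have hpp : p.IsPrime := hp.isPrime
  have hred := isReduced_fiber hinj hR p hp
  -- the polynomials in the fibre
  let D := p.ResidueField ⊗[R] B
  let ψ : B →+* D := (Algebra.TensorProduct.includeRight : B →ₐ[R] D).toRingHom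
  have hψ : ψ.comp (algebraMap R B) = (algebraMap p.ResidueField D).comp (algebraMap R p.ResidueField) := by
    ext r
    change ψ (algebraMap R B r) = algebraMap p.ResidueField D (algebraMap R p.ResidueField r)
    rw [← IsScalarTower.algebraMap_apply]
    exact (Algebra.TensorProduct.includeRight : B →ₐ[R] D).commutes r
  have key : ∀ (f g : ι → B[X]) (m : ι → ι → R[X]) (f0 g0 : ι → R)
      (_ : ∀ i j, f i * g j = (m i j).map (algebraMap R B))
      (_ : ∀ i, (f i).coeff 0 = algebraMap R B (f0 i)) (_ : ∀ i, (g i).coeff 0 = algebraMap R B (g0 i))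
      (_ : ∑ i ∈ s, f i * g i = 1), ∀ i ∈ s, ∃ f' : p.ResidueField[X],
        (f i).map ψ = f'.map (algebraMap p.ResidueField D) := by
    intro f g m f0 g0 hm hf0 hg0 h1
    refine field_case s (fun i => (f i).map ψ) (fun i => (g i).map ψ)
      (fun i j => (m i j).map (algebraMap R p.ResidueField)) ?_ (fun i => algebraMap R p.ResidueField (f0 i))
      (fun i => algebraMap R p.ResidueField (g0 i)) ?_ ?_ ?_
    · intro i j
      rw [← Polynomial.map_mul, hm, Polynomial.map_map, Polynomial.map_map, hψ]
    · intro i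
      rw [coeff_map, hf0]
      exact RingHom.congr_fun hψ _
    · intro i
      rw [coeff_map, hg0]
      exact RingHom.congr_fun hψ _
    · simp_rw [← Polynomial.map_mul]
      rw [← Polynomial.map_sum, h1, Polynomial.map_one]
  have hf := key f g m f0 g0 hm hf0 hg0 h1
  have hg := key g f (fun i j => m j i) g0 f0 (fun i j => by rw [mul_comm, hm]) hg0 hf0 (by
    rw [← h1]; exact Finset.sum_congr rfl fun i _ => mul_comm _ _)
  -- so all elements of `B` come from the residue field
  have hall : ∀ b : B, ∃ c : p.ResidueField, (1 : p.ResidueField) ⊗ₜ[R] b = c ⊗ₜ[R] (1 : B) := by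
    intro b
    let T : Subalgebra R B := ((Algebra.ofId p.ResidueField D).range.restrictScalars R).comap
      (Algebra.TensorProduct.includeRight : B →ₐ[R] D)
    have hT : ⊤ ≤ T := by
      rw [← hgen, Algebra.adjoin_le_iff]
      rintro c ⟨i, hi, n, hc | hc⟩
      · obtain ⟨f', hf'⟩ := hf i hi
        refine ⟨f'.coeff n, ?_⟩
        have := congrArg (fun q : D[X] => q.coeff n) hf'
        simp only [coeff_map] at this
        rw [hc]
        exact this.symm
      · obtain ⟨g', hg'⟩ := hg i hi
        refine ⟨g'.coeff n, ?_⟩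
        have := congrArg (fun q : D[X] => q.coeff n) hg'
        simp only [coeff_map] at this
        rw [hc]
        exact this.symm
    obtain ⟨c, hc⟩ := hT (Algebra.mem_top : b ∈ ⊤)
    exact ⟨c, hc.symm⟩
  have hsub := subsingleton_fiber_quot p hall
  -- contradiction with the support
  have hsup : (⟨p, hpp⟩ : PrimeSpectrum R) ∈ Module.support R (B ⧸ LinearMap.range (Algebra.linearMap R B)) := by
    rw [Module.mem_support_iff_of_finite]
    intro r hr
    refine hp.le ?_
    rw [Ideal.mem_comap, mem_cond]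
    intro t
    rw [Module.mem_annihilator] at hr
    have h2 := hr (Submodule.mkQ _ t)
    rw [← map_smul, Submodule.mkQ_apply, Submodule.Quotient.mk_eq_zero] at h2
    obtain ⟨c, hc⟩ := h2
    exact ⟨c, by rw [← Algebra.smul_def, ← hc]; rfl⟩
  rw [Module.mem_support_iff_nontrivial_residueField_tensorProduct] at hsup
  exact not_nontrivial _ hsup

/-- The same statement for arbitrary (reduced) overrings when the coefficients are integral. -/
theorem coeff_mem_range [IsReduced B]
    (hinj : Function.Injective (algebraMap R B)) (hR : SN R) {ι : Type*} [Fintype ι]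
    (f g : ι → B[X]) (m : ι → ι → R[X]) (hm : ∀ i j, f i * g j = (m i j).map (algebraMap R B))
    (f0 g0 : ι → R) (hf0 : ∀ i, (f i).coeff 0 = algebraMap R B (f0 i))
    (hg0 : ∀ i, (g i).coeff 0 = algebraMap R B (g0 i)) (h1 : ∑ i, f i * g i = 1)
    (hfi : ∀ i n, IsIntegral R ((f i).coeff n)) (hgi : ∀ i n, IsIntegral R ((g i).coeff n)) :
    ∀ i n, (f i).coeff n ∈ (algebraMap R B).range ∧ (g i).coeff n ∈ (algebraMap R B).range := by
  classical
  let C := Algebra.adjoin R (coeffs Finset.univ f g)
  have hC : Module.Finite R C := Algebra.finite_adjoin_of_finite_of_isIntegral (finite_coeffs _ f g) (by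
    rintro c ⟨i, -, n, hc | hc⟩
    · rw [hc]; exact hfi i n
    · rw [hc]; exact hgi i n)
  have hCinj : Function.Injective (algebraMap C B) := Subtype.val_injective
  have hRC : Function.Injective (algebraMap R C) := by
    have h := hinj
    rw [IsScalarTower.algebraMap_eq R C B, RingHom.coe_comp] at h
    exact Function.Injective.of_comp h
  have hCred : IsReduced C := isReduced_of_injective _ hCinj
  have hfC : ∀ i, ∃ F : C[X], F.map (algebraMap C B) = f i := by
    intro i
    rw [← Polynomial.mem_lifts, Polynomial.lifts_iff_coeff_lifts]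
    exact fun n => ⟨⟨(f i).coeff n, Algebra.subset_adjoin ⟨i, Finset.mem_univ i, n, Or.inl rfl⟩⟩, rfl⟩
  have hgC : ∀ i, ∃ G : C[X], G.map (algebraMap C B) = g i := by
    intro i
    rw [← Polynomial.mem_lifts, Polynomial.lifts_iff_coeff_lifts]
    exact fun n => ⟨⟨(g i).coeff n, Algebra.subset_adjoin ⟨i, Finset.mem_univ i, n, Or.inr rfl⟩⟩, rfl⟩
  choose F hF using hfC
  choose G hG using hgC
  have hmapinj : Function.Injective (Polynomial.map (algebraMap C B)) := Polynomial.map_injective _ hCinj
  have hsurj : Function.Surjective (algebraMap R C) := by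
    refine surjective_of_finite hRC hR Finset.univ F G m ?_ f0 g0 ?_ ?_ ?_ ?_
    · intro i j
      apply hmapinj
      rw [Polynomial.map_mul, hF, hG, hm, Polynomial.map_map, ← IsScalarTower.algebraMap_eq]
    · intro i
      apply hCinj
      rw [← coeff_map, hF, hf0, ← IsScalarTower.algebraMap_apply]
    · intro i
      apply hCinj
      rw [← coeff_map, hG, hg0, ← IsScalarTower.algebraMap_apply]
    · apply hmapinj
      rw [Polynomial.map_sum, Polynomial.map_one, ← h1]
      exact Finset.sum_congr rfl fun i _ => by rw [Polynomial.map_mul, hF, hG]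
    · have hinj' : Function.Injective (Subalgebra.map C.val) :=
        Subalgebra.map_injective Subtype.val_injective
      apply hinj'
      rw [AlgHom.map_adjoin, Algebra.map_top, Subalgebra.range_val]
      change Algebra.adjoin R _ = Algebra.adjoin R _
      congr 1
      ext c
      constructor
      · rintro ⟨c', ⟨i, hi, n, hc | hc⟩, rfl⟩
        · exact ⟨i, hi, n, Or.inl (by rw [← hF i, coeff_map, hc]; rfl)⟩
        · exact ⟨i, hi, n, Or.inr (by rw [← hG i, coeff_map, hc]; rfl)⟩
      · rintro ⟨i, hi, n, hc | hc⟩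
        · exact ⟨(F i).coeff n, ⟨i, hi, n, Or.inl rfl⟩, by rw [hc, ← hF i, coeff_map]; rfl⟩
        · exact ⟨(G i).coeff n, ⟨i, hi, n, Or.inr rfl⟩, by rw [hc, ← hG i, coeff_map]; rfl⟩
  intro i n
  constructor
  · obtain ⟨r, hr⟩ := hsurj ((F i).coeff n)
    exact ⟨r, by rw [IsScalarTower.algebraMap_apply R C B, hr, ← coeff_map, hF]⟩
  · obtain ⟨r, hr⟩ := hsurj ((G i).coeff n)
    exact ⟨r, by rw [IsScalarTower.algebraMap_apply R C B, hr, ← coeff_map, hG]⟩

end Main

theorem exists_mem {A : Type*} [CommRing A] (hA : SN A) {Q : Type*} (K : Q → Type*)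
    [∀ q, Field (K q)] [∀ q, Algebra A (K q)] (hinj : Function.Injective (algebraMap A (∀ q, K q)))
    {P : Type*} [AddCommGroup P] [Module A[X] P] [Module.Invertible A[X] P] {n : ℕ}
    (e : Fin n → P) (e' : Fin n → (P →ₗ[A[X]] A[X])) (hee : ∀ p : P, ∑ i, e' i p • e i = p)
    (f0 g0 : Fin n → A) (hm0 : ∀ i j, (e' j (e i)).coeff 0 = f0 i * g0 j) (h10 : ∑ i, f0 i * g0 i = 1) :
    ∃ f g : Fin n → A[X], (∀ i j, f i * g j = e' j (e i)) ∧ ∑ i, f i * g i = 1 ∧
      (∀ i, (f i).coeff 0 = f0 i) ∧ (∀ i, (g i).coeff 0 = g0 i) := by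
  classical
  have h1 : ∀ q : Q, ∃ f' g' : Fin n → (K q)[X], (∀ i j, f' i * g' j = (e' j (e i)).map (algebraMap A (K q))) ∧
      ∑ i, f' i * g' i = 1 ∧ (∀ i, (f' i).coeff 0 = algebraMap A (K q) (f0 i)) ∧
      (∀ i, (g' i).coeff 0 = algebraMap A (K q) (g0 i)) := by
    intro q
    obtain ⟨f, g, h1, h2⟩ := exists_factor (K := K q) e e' hee
    exact exists_normalized (fun i j => e' j (e i)) f0 g0 hm0 h10 f g h1 h2
  choose F G hFG hFG1 hF0 hG0 using h1
  -- the degrees are bounded
  let N : ℕ := Finset.univ.sup fun ij : Fin n × Fin n => (e' ij.2 (e ij.1)).natDegree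
  have hN : ∀ i j, (e' j (e i)).natDegree ≤ N := fun i j =>
    Finset.le_sup (f := fun ij : Fin n × Fin n => (e' ij.2 (e ij.1)).natDegree) (Finset.mem_univ (i, j))
  have hdegF : ∀ q i, (F q i).natDegree ≤ N := by
    intro q i
    by_cases hFi : F q i = 0
    · rw [hFi, natDegree_zero]; exact Nat.zero_le _
    obtain ⟨j, hj⟩ : ∃ j, G q j ≠ 0 := by
      by_contra hne
      push Not at hne
      have := hFG1 q
      simp [hne] at this
    have h2 : (F q i * G q j).natDegree = (F q i).natDegree + (G q j).natDegree := natDegree_mul hFi hj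
    rw [hFG] at h2
    have h3 : ((e' j (e i)).map (algebraMap A (K q))).natDegree ≤ N := natDegree_map_le.trans (hN i j)
    omega
  have hdegG : ∀ q i, (G q i).natDegree ≤ N := by
    intro q i
    by_cases hGi : G q i = 0
    · rw [hGi, natDegree_zero]; exact Nat.zero_le _
    obtain ⟨j, hj⟩ : ∃ j, F q j ≠ 0 := by
      by_contra hne
      push Not at hne
      have := hFG1 q
      simp [hne] at this
    have h2 : (F q j * G q i).natDegree = (F q j).natDegree + (G q i).natDegree := natDegree_mul hj hGi
    rw [hFG] at h2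
    have h3 : ((e' i (e j)).map (algebraMap A (K q))).natDegree ≤ N := natDegree_map_le.trans (hN j i)
    omega
  let f : Fin n → (∀ q, K q)[X] := fun i =>
    ∑ k ∈ Finset.range (N + 1), monomial k (fun q => (F q i).coeff k)
  let g : Fin n → (∀ q, K q)[X] := fun i =>
    ∑ k ∈ Finset.range (N + 1), monomial k (fun q => (G q i).coeff k)
  have hfc : ∀ i k q, (f i).coeff k q = (F q i).coeff k := by
    intro i k q
    simp only [f, finsetSum_coeff, coeff_monomial]
    rw [Finset.sum_ite_eq' (Finset.range (N + 1)) k]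
    split_ifs with h
    · rfl
    · rw [Polynomial.coeff_eq_zero_of_natDegree_lt]
      · rfl
      · rw [Finset.mem_range] at h
        have := hdegF q i
        omega
  have hgc : ∀ i k q, (g i).coeff k q = (G q i).coeff k := by
    intro i k q
    simp only [g, finsetSum_coeff, coeff_monomial]
    rw [Finset.sum_ite_eq' (Finset.range (N + 1)) k]
    split_ifs with h
    · rfl
    · rw [Polynomial.coeff_eq_zero_of_natDegree_lt]
      · rfl
      · rw [Finset.mem_range] at h
        have := hdegG q i
        omega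
  have hfq : ∀ i q, (f i).map (Pi.evalRingHom K q) = F q i := by
    intro i q
    ext k
    rw [coeff_map]
    exact hfc i k q
  have hgq : ∀ i q, (g i).map (Pi.evalRingHom K q) = G q i := by
    intro i q
    ext k
    rw [coeff_map]
    exact hgc i k q
  have hext : ∀ a b : (∀ q, K q)[X], (∀ q, a.map (Pi.evalRingHom K q) = b.map (Pi.evalRingHom K q)) → a = b := by
    intro a b h
    ext k q
    have := congrArg (fun p : (K q)[X] => p.coeff k) (h q)
    simp only [coeff_map] at this
    exact this
  have hcomp : ∀ q, (Pi.evalRingHom K q).comp (algebraMap A (∀ q, K q)) = algebraMap A (K q) := fun q => rfl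
  have hm : ∀ i j, f i * g j = (e' j (e i)).map (algebraMap A (∀ q, K q)) := by
    intro i j
    refine hext _ _ fun q => ?_
    rw [Polynomial.map_mul, hfq, hgq, hFG, Polynomial.map_map, hcomp]
  have hsum : ∑ i, f i * g i = 1 := by
    refine hext _ _ fun q => ?_
    rw [Polynomial.map_sum, Polynomial.map_one, ← hFG1 q]
    exact Finset.sum_congr rfl fun i _ => by rw [Polynomial.map_mul, hfq, hgq]
  have hf0 : ∀ i, (f i).coeff 0 = algebraMap A (∀ q, K q) (f0 i) := by
    intro i
    funext q
    rw [hfc, hF0]; rfl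
  have hg0 : ∀ i, (g i).coeff 0 = algebraMap A (∀ q, K q) (g0 i) := by
    intro i
    funext q
    rw [hgc, hG0]; rfl
  have hone : ∑ i, (f i).coeff 0 * (g i).coeff 0 = 1 := by
    have := congrArg (fun a : (∀ q, K q)[X] => a.coeff 0) hsum
    simpa only [finsetSum_coeff, mul_coeff_zero, coeff_one_zero] using this
  have hprod : ∀ i j k l, IsIntegral A ((f i).coeff k * (g j).coeff l) := fun i j k l =>
    K88.Kronecker.isIntegral_coeff_mul_coeff (f i) (g j) (fun m => by
      rw [hm, coeff_map]; exact ⟨_, rfl⟩) k l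
  have hint : ∀ i k, IsIntegral A ((f i).coeff k) := by
    intro i k
    have h2 : (f i).coeff k = ∑ j, ((f i).coeff k * (g j).coeff 0) * (f j).coeff 0 := by
      calc (f i).coeff k = (f i).coeff k * 1 := (mul_one _).symm
        _ = _ := by
          rw [← hone, Finset.mul_sum]
          refine Finset.sum_congr rfl fun j _ => by ring
    rw [h2]
    refine IsIntegral.sum _ fun j _ => (hprod i j k 0).mul ?_
    rw [hf0]; exact isIntegral_algebraMap
  have hint' : ∀ i k, IsIntegral A ((g i).coeff k) := by
    intro i k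
    have h2 : (g i).coeff k = ∑ j, ((f j).coeff 0 * (g i).coeff k) * (g j).coeff 0 := by
      calc (g i).coeff k = (g i).coeff k * 1 := (mul_one _).symm
        _ = _ := by
          rw [← hone, Finset.mul_sum]
          refine Finset.sum_congr rfl fun j _ => by ring
    rw [h2]
    refine IsIntegral.sum _ fun j _ => (hprod j i 0 k).mul ?_
    rw [hg0]; exact isIntegral_algebraMap
  have hmem := coeff_mem_range hinj hA f g (fun i j => e' j (e i)) hm f0 g0 hf0 hg0 hsum hint hint'
  have hf : ∀ i, ∃ f' : A[X], f'.map (algebraMap A (∀ q, K q)) = f i := by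
    intro i
    rw [← Polynomial.mem_lifts, Polynomial.lifts_iff_coeff_lifts]
    exact fun k => (hmem i k).1
  have hg : ∀ i, ∃ g' : A[X], g'.map (algebraMap A (∀ q, K q)) = g i := by
    intro i
    rw [← Polynomial.mem_lifts, Polynomial.lifts_iff_coeff_lifts]
    exact fun k => (hmem i k).2
  choose f' hf' using hf
  choose g' hg' using hg
  have hmi : Function.Injective (Polynomial.map (algebraMap A (∀ q, K q))) := Polynomial.map_injective _ hinj
  refine ⟨f', g', fun i j => hmi ?_, hmi ?_, fun i => hinj ?_, fun i => hinj ?_⟩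
  · rw [Polynomial.map_mul, hf', hg', hm]
  · rw [Polynomial.map_sum, Polynomial.map_one, ← hsum]
    exact Finset.sum_congr rfl fun i _ => by rw [Polynomial.map_mul, hf', hg']
  · rw [← coeff_map, hf', hf0]
  · rw [← coeff_map, hg', hg0]

section Gen

variable {A : Type*} [CommRing A]

/-- **Traverso's theorem.** -/
theorem exists_generator (hA : SN A) {P : Type*} [AddCommGroup P] [Module A[X] P]
    [Module.Invertible A[X] P] (ψ : P →+ A) (hψ : ∀ (a : A[X]) (p : P), ψ (a • p) = a.coeff 0 * ψ p)
    (p₀ : P) (hp₀ : ψ p₀ = 1) :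
    ∃ e : P, ψ e = 1 ∧ Function.Bijective (LinearMap.toSpanSingleton A[X] P e) := by
  obtain ⟨n, F, G, -, -, hFG⟩ := Module.Finite.exists_comp_eq_id_of_projective A[X] P
  let e : Fin n → P := fun i => F (Pi.single i 1)
  let e' : Fin n → (P →ₗ[A[X]] A[X]) := fun i => LinearMap.proj i ∘ₗ G
  have hee : ∀ p : P, ∑ i, e' i p • e i = p := by
    intro p
    have h1 : G p = ∑ i, e' i p • (Pi.single i 1 : Fin n → A[X]) := by
      funext j
      simp [e', Finset.sum_apply, Pi.single_apply]
    have h2 : F (G p) = p := LinearMap.congr_fun hFG p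
    rw [h1, map_sum] at h2
    rw [← h2]
    refine Finset.sum_congr rfl fun i _ => ?_
    rw [map_smul, h2]
  let f0 : Fin n → A := fun i => ψ (e i)
  let g0 : Fin n → A := fun j => (e' j p₀).coeff 0
  have hm0 : ∀ i j, (e' j (e i)).coeff 0 = f0 i * g0 j := by
    intro i j
    have h1 : (e' j (e i)) • p₀ = (e' j p₀) • e i := by
      have h := Module.Invertible.tmul_comm (R := A[X]) (m₁ := e i) (m₂ := p₀)
      have h2 := congrArg (TensorProduct.lift ((LinearMap.lsmul A[X] P) ∘ₗ e' j)) h
      simpa using h2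
    have h2 := congrArg ψ h1
    rw [hψ, hψ, hp₀, mul_one] at h2
    rw [h2, mul_comm]
  have h10 : ∑ i, f0 i * g0 i = 1 := by
    rw [← hp₀]
    conv_rhs => rw [← hee p₀, map_sum]
    refine Finset.sum_congr rfl fun i _ => ?_
    rw [hψ, mul_comm]
  -- the residue fields of the minimal primes
  have hred := hA.isReduced
  have hinj : Function.Injective (algebraMap A (∀ q : PrimeSpectrum A, q.asIdeal.ResidueField)) := by
    rw [injective_iff_map_eq_zero]
    intro a ha
    have h1 : a ∈ nilradical A := by
      rw [nilradical_eq_sInf, Ideal.mem_sInf]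
      intro p hp
      have hpp : p.IsPrime := hp
      have := congrFun ha ⟨p, hpp⟩
      exact Ideal.algebraMap_residueField_eq_zero.mp this
    exact (mem_nilradical.mp h1).eq_zero
  obtain ⟨f, g, hfg, h1, hf0, hg0⟩ := exists_mem hA (fun q : PrimeSpectrum A => q.asIdeal.ResidueField) hinj e e' hee
    f0 g0 hm0 h10
  -- the generator
  let ε : P := ∑ i, g i • e i
  let ε' : P →ₗ[A[X]] A[X] := ∑ i, f i • e' i
  have he : ∀ j, e j = f j • ε := by
    intro j
    rw [Finset.smul_sum]
    conv_lhs => rw [← hee (e j)]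
    refine Finset.sum_congr rfl fun i _ => ?_
    rw [smul_smul, hfg]
  have hεε : ε' ε = 1 := by
    have : ∀ i ∈ Finset.univ, (f i • e' i) ε = f i * g i := by
      intro i _
      rw [LinearMap.smul_apply, smul_eq_mul]
      congr 1
      simp only [ε, map_sum, map_smul, smul_eq_mul]
      have h2 : ∀ j ∈ Finset.univ, g j * e' i (e j) = (f j * g j) * g i := by
        intro j _
        rw [← hfg]; ring
      rw [Finset.sum_congr rfl h2, ← Finset.sum_mul, h1, one_mul]
    simp only [ε', LinearMap.sum_apply]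
    rw [Finset.sum_congr rfl this, h1]
  refine ⟨ε, ?_, ?_, ?_⟩
  · simp only [ε, map_sum, hψ]
    rw [← h10]
    refine Finset.sum_congr rfl fun i _ => ?_
    rw [hg0, mul_comm]
  · intro a b hab
    have h2 := congrArg ε' hab
    simp only [LinearMap.toSpanSingleton_apply, map_smul, hεε, smul_eq_mul, mul_one] at h2
    exact h2
  · intro p
    refine ⟨∑ i, e' i p * f i, ?_⟩
    rw [LinearMap.toSpanSingleton_apply, Finset.sum_smul]
    conv_rhs => rw [← hee p]
    refine Finset.sum_congr rfl fun i _ => ?_
    rw [mul_smul, ← he]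

end Gen

/-- over a seminormal local ring, invertible modules over the polynomial ring are free. -/
theorem free_of_invertible {R : Type*} [CommRing R] [IsLocalRing R] (hR : SN R) (P : Type*)
    [AddCommGroup P] [Module R[X] P] [Module.Invertible R[X] P] : Module.Free R[X] P := by
  let _ : Algebra R[X] R := (Polynomial.constantCoeff (R := R)).toAlgebra
  have hinv : Module.Invertible R (R ⊗[R[X]] P) := inferInstance
  have hfree : Module.Free R (R ⊗[R[X]] P) := Module.free_of_flat_of_isLocalRing
  obtain ⟨φ⟩ := (Module.Invertible.free_iff_linearEquiv (R := R) (M := R ⊗[R[X]] P)).mp hfree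
  let ψ : P →+ R := φ.toAddEquiv.toAddMonoidHom.comp (TensorProduct.mk R[X] R P 1).toAddMonoidHom
  have hψ : ∀ (a : R[X]) (p : P), ψ (a • p) = a.coeff 0 * ψ p := by
    intro a p
    change φ ((1 : R) ⊗ₜ[R[X]] (a • p)) = a.coeff 0 * φ ((1 : R) ⊗ₜ[R[X]] p)
    rw [← TensorProduct.smul_tmul, ← smul_eq_mul (a.coeff 0), ← map_smul, TensorProduct.smul_tmul',
      Algebra.smul_def, smul_eq_mul]
    rfl
  have hsurj : ∀ x : R ⊗[R[X]] P, ∃ p : P, (1 : R) ⊗ₜ[R[X]] p = x := by
    intro x
    induction x using TensorProduct.induction_on with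
    | zero => exact ⟨0, by simp⟩
    | tmul r p =>
      refine ⟨(Polynomial.C r) • p, ?_⟩
      rw [← TensorProduct.smul_tmul, Algebra.smul_def]
      congr 1
      change Polynomial.constantCoeff (Polynomial.C r) * 1 = r
      simp
    | add x y hx hy =>
      obtain ⟨p, rfl⟩ := hx
      obtain ⟨q, rfl⟩ := hy
      exact ⟨p + q, TensorProduct.tmul_add _ _ _⟩
  obtain ⟨p₀, hp₀⟩ := hsurj (φ.symm 1)
  obtain ⟨e, -, he⟩ := exists_generator hR ψ hψ p₀ (by
    change φ ((1 : R) ⊗ₜ[R[X]] p₀) = 1
    rw [hp₀, φ.apply_symm_apply])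
  exact Module.Free.of_equiv (LinearEquiv.ofBijective _ he)

/-- the prelude definition of seminormal rings. -/
theorem sn_of_isSeminormalRing {R : Type u} [CommRing R]
    (hR : ∀ x y : R, x ^ 3 = y ^ 2 → ∃! a : R, x = a ^ 2 ∧ y = a ^ 3) : SN R := by
  intro b c h
  obtain ⟨a, ⟨h1, h2⟩, -⟩ := hR c b h.symm
  exact ⟨a, h2.symm, h1.symm⟩

end K88.Traverso
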