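import Groth.Agent.CAlg.K88.Frame
import Mathlib.LinearAlgebra.TensorProduct.Pi
import Mathlib.RingTheory.FiniteType

/-!
# Approximation for finitely generated projective modules

`ZarPair L L' S t`: `L → L'` a ring map, `S ⊆ L'` a subring, `t ∈ S` with `L' = S[1/t]`,
`L' = im(L) + t^n S`, and elements of `L` with image in `1 + tS` are units.
* `nonempty_linearEquiv` : f.g. projective `L`-modules isomorphic over `L'` are isomorphic.
* `exists_stablyFree` : stably free `L'`-modules come from stably free `L`-modules.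
-/

set_option autoImplicit false

open TensorProduct K88.Frames

namespace K88.ZarApprox

universe u v w

/-- see the module docstring -/
structure ZarPair (L : Type u) (L' : Type v) [CommRing L] [CommRing L'] [Algebra L L']
    (S : Subring L') (t : L') : Prop where
  t_mem : t ∈ S
  exists_pow : ∀ x : L', ∃ n : ℕ, t ^ n * x ∈ S
  approx : ∀ (x : L') (n : ℕ), ∃ y : L, ∃ s ∈ S, x = algebraMap L L' y + t ^ n * s
  unit_of : ∀ y : L, (∃ s ∈ S, algebraMap L L' y = 1 + t * s) → IsUnit y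
  unit_one_add : ∀ s ∈ S, IsUnit (1 + t * s)

variable {L : Type u} {L' : Type v} [CommRing L] [CommRing L'] [Algebra L L']
  {S : Subring L'} {t : L'}

/-- the subgroup `t^n S` -/
def Fil (S : Subring L') (t : L') (n : ℕ) : AddSubgroup L' :=
  S.toAddSubgroup.map (AddMonoidHom.mulLeft (t ^ n))

theorem mem_Fil {n : ℕ} {x : L'} : x ∈ Fil S t n ↔ ∃ s ∈ S, x = t ^ n * s := by
  constructor
  · rintro ⟨s, hs, rfl⟩
    exact ⟨s, hs, rfl⟩
  · rintro ⟨s, hs, rfl⟩
    exact ⟨s, hs, rfl⟩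

theorem Fil_anti (ht : t ∈ S) {n m : ℕ} (h : n ≤ m) : Fil S t m ≤ Fil S t n := by
  intro x hx
  obtain ⟨s, hs, rfl⟩ := mem_Fil.mp hx
  obtain ⟨k, rfl⟩ := Nat.exists_eq_add_of_le h
  exact mem_Fil.mpr ⟨t ^ k * s, S.mul_mem (S.pow_mem ht k) hs, by ring⟩

theorem mul_mem_Fil {n m k : ℕ} {x y : L'} (hx : t ^ k * x ∈ S) (hy : y ∈ Fil S t m)
    (h : n + k ≤ m) (ht : t ∈ S) : x * y ∈ Fil S t n := by
  obtain ⟨s, hs, rfl⟩ := mem_Fil.mp hy
  obtain ⟨l, rfl⟩ := Nat.exists_eq_add_of_le h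
  refine mem_Fil.mpr ⟨t ^ l * ((t ^ k * x) * s), S.mul_mem (S.pow_mem ht l) (S.mul_mem hx hs), ?_⟩
  ring

/-- matrices with entries in `t^n S` -/
def MFil (S : Subring L') (t : L') (n : ℕ) (I J : Type*) : AddSubgroup (Matrix I J L') where
  carrier := {X | ∀ i j, X i j ∈ Fil S t n}
  add_mem' := fun ha hb i j => add_mem (ha i j) (hb i j)
  zero_mem' := fun _ _ => zero_mem _
  neg_mem' := fun ha i j => neg_mem (ha i j)

theorem mem_MFil {n : ℕ} {I J : Type*} {X : Matrix I J L'} :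
    X ∈ MFil S t n I J ↔ ∀ i j, X i j ∈ Fil S t n := Iff.rfl

theorem MFil_anti (ht : t ∈ S) {n m : ℕ} (h : n ≤ m) {I J : Type*} :
    MFil S t m I J ≤ MFil S t n I J :=
  fun _ hX i j => Fil_anti ht h (hX i j)

namespace ZarPair

variable (P : ZarPair L L' S t)
include P

theorem exists_bound {I J : Type*} [Finite I] [Finite J] (X : Matrix I J L') :
    ∃ k : ℕ, ∀ i j, t ^ k * X i j ∈ S := by
  classical
  cases nonempty_fintype I
  cases nonempty_fintype J
  choose f hf using fun ij : I × J => P.exists_pow (X ij.1 ij.2)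
  refine ⟨Finset.univ.sup f, fun i j => ?_⟩
  obtain ⟨l, hl⟩ := Nat.exists_eq_add_of_le (Finset.le_sup (f := f) (Finset.mem_univ (i, j)))
  rw [hl, pow_add, mul_comm (t ^ f (i, j)), mul_assoc]
  exact S.mul_mem (S.pow_mem P.t_mem l) (hf (i, j))

theorem mul_mem_MFil_left {I J K : Type*} [Fintype J] {n m k : ℕ} {X : Matrix I J L'}
    {Y : Matrix J K L'} (hX : ∀ i j, t ^ k * X i j ∈ S) (hY : Y ∈ MFil S t m J K)
    (h : n + k ≤ m) : X * Y ∈ MFil S t n I K := by
  intro i j
  rw [Matrix.mul_apply]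
  exact AddSubgroup.sum_mem _ fun l _ => mul_mem_Fil (hX i l) (hY l j) h P.t_mem

theorem mul_mem_MFil_right {I J K : Type*} [Fintype J] {n m k : ℕ} {X : Matrix I J L'}
    {Y : Matrix J K L'} (hY : ∀ i j, t ^ k * Y i j ∈ S) (hX : X ∈ MFil S t m I J)
    (h : n + k ≤ m) : X * Y ∈ MFil S t n I K := by
  intro i j
  rw [Matrix.mul_apply]
  refine AddSubgroup.sum_mem _ fun l _ => ?_
  rw [mul_comm]
  exact mul_mem_Fil (hY l j) (hX i l) h P.t_mem

theorem exists_approx {I J : Type*} (X : Matrix I J L') (n : ℕ) :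
    ∃ Y : Matrix I J L, X - Y.map (algebraMap L L') ∈ MFil S t n I J := by
  choose y s hs h using fun i j => P.approx (X i j) n
  refine ⟨fun i j => y i j, fun i j => mem_Fil.mpr ⟨s i j, hs i j, ?_⟩⟩
  rw [Matrix.sub_apply, Matrix.map_apply, h i j]
  ring

/-- the determinant of a matrix close to one -/
theorem det_one_add {I : Type*} [Fintype I] [DecidableEq I] {X : Matrix I I L'}
    (hX : X ∈ MFil S t 1 I I) : ∃ s ∈ S, (1 + X).det = 1 + t * s := by
  choose s hs h using fun i j => mem_Fil.mp (hX i j)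
  -- pass to the quotient of `S` by `t`
  let tS : S := ⟨t, P.t_mem⟩
  let X₀ : Matrix I I S := fun i j => ⟨s i j, hs i j⟩
  have hX₀ : (1 + tS • X₀).map (S.subtype : S →+* L') = 1 + X := by
    ext i j
    simp only [Matrix.map_apply, Matrix.add_apply, Matrix.smul_apply, map_add, smul_eq_mul,
      map_mul, Matrix.one_apply]
    rw [h i j]
    split_ifs <;> simp [tS, X₀]
  have hdet : ((1 + tS • X₀).det : S) - 1 ∈ Ideal.span {tS} := by
    rw [← Ideal.Quotient.eq, RingHom.map_det, map_one]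
    have : (Ideal.Quotient.mk (Ideal.span {tS})).mapMatrix (1 + tS • X₀) = 1 := by
      ext i j
      have h0 : Ideal.Quotient.mk (Ideal.span {tS}) tS = 0 :=
        Ideal.Quotient.eq_zero_iff_mem.mpr (Ideal.mem_span_singleton_self _)
      simp [Matrix.one_apply, h0]
    rw [this, Matrix.det_one]
  obtain ⟨r, hr⟩ := Ideal.mem_span_singleton.mp hdet
  refine ⟨r, r.2, ?_⟩
  rw [← hX₀, ← RingHom.mapMatrix_apply, ← RingHom.map_det]
  have : (1 + tS • X₀).det = 1 + tS * r := by rw [← hr]; ring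
  rw [this, map_add, map_one, map_mul]
  rfl

theorem isUnit_det_of_map {I : Type*} [Fintype I] [DecidableEq I] {X : Matrix I I L}
    (hX : X.map (algebraMap L L') - 1 ∈ MFil S t 1 I I) : IsUnit X.det := by
  obtain ⟨s, hs, h⟩ := P.det_one_add hX
  apply P.unit_of
  refine ⟨s, hs, ?_⟩
  rw [← h, RingHom.map_det, RingHom.mapMatrix_apply]
  congr 1
  abel

theorem isUnit_det {I : Type*} [Fintype I] [DecidableEq I] {X : Matrix I I L'}
    (hX : X - 1 ∈ MFil S t 1 I I) : IsUnit X.det := by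
  obtain ⟨s, hs, h⟩ := P.det_one_add hX
  have h1 : 1 + (X - 1) = X := by abel
  rw [h1] at h
  rw [h]
  exact P.unit_one_add s hs

variable {M N : Type*} [AddCommGroup M] [Module L M] [AddCommGroup N] [Module L N]

/-- one half of the approximation: maps `f, g` near a pair of inverse isomorphisms. -/
theorem surjective_comp {m n : ℕ} (F : Frame L M m) (G : Frame L N n)
    (f' : L' ⊗[L] M →ₗ[L'] L' ⊗[L] N) (g' : L' ⊗[L] N →ₗ[L'] L' ⊗[L] M)
    (hgf : g' ∘ₗ f' = LinearMap.id) :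
    ∃ k₀ : ℕ, ∀ (X : Matrix (Fin n) (Fin m) L) (Y : Matrix (Fin m) (Fin n) L),
      mat (F.baseChange L') (G.baseChange L') f' - X.map (algebraMap L L') ∈ MFil S t k₀ _ _ →
      mat (G.baseChange L') (F.baseChange L') g' - Y.map (algebraMap L L') ∈ MFil S t k₀ _ _ →
      Function.Surjective (ofMat G F Y ∘ₗ ofMat F G X) := by
  classical
  set F' := F.baseChange L' with hF'
  set G' := G.baseChange L' with hG'
  -- bounds
  obtain ⟨a, ha⟩ := P.exists_bound (mat F' G' f')
  obtain ⟨b, hb⟩ := P.exists_bound (mat G' F' g')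
  obtain ⟨c, hc⟩ := P.exists_bound (mat F' F' LinearMap.id)
  obtain ⟨d, hd⟩ := P.exists_bound (mat G' G' LinearMap.id)
  refine ⟨1 + a + b + c + c + d, fun X Y hX hY => ?_⟩
  apply surjective_of_isUnit_det F
  apply P.isUnit_det_of_map
  -- compute the matrix
  have hmap : ∀ {p q : ℕ} (A B : Matrix (Fin p) (Fin q) L), (A + B).map (algebraMap L L') =
      A.map (algebraMap L L') + B.map (algebraMap L L') := fun A B => by
    ext i j; simp
  set EF : Matrix (Fin m) (Fin m) L' := mat F' F' LinearMap.id with hEF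
  set EG : Matrix (Fin n) (Fin n) L' := mat G' G' LinearMap.id with hEG
  set X' := X.map (algebraMap L L') with hX'
  set Y' := Y.map (algebraMap L L') with hY'
  set f₁ := mat F' G' f' with hf₁
  set g₁ := mat G' F' g' with hg₁
  have hEFF : EF * EF = EF := by
    rw [hEF, ← mat_comp, LinearMap.id_comp]
  have hEGG : EG * EG = EG := by
    rw [hEG, ← mat_comp, LinearMap.id_comp]
  have hEf : EG * f₁ = f₁ := by rw [hEG, hf₁, ← mat_comp, LinearMap.id_comp]
  have hfE : f₁ * EF = f₁ := by rw [hEF, hf₁, ← mat_comp, LinearMap.comp_id]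
  have hEg : EF * g₁ = g₁ := by rw [hEF, hg₁, ← mat_comp, LinearMap.id_comp]
  have hgE : g₁ * EG = g₁ := by rw [hEG, hg₁, ← mat_comp, LinearMap.comp_id]
  have hgf' : g₁ * f₁ = EF := by rw [hg₁, hf₁, hEF, ← mat_comp, hgf]
  have h1 : (mat F F (ofMat G F Y ∘ₗ ofMat F G X) + (1 - mat F F LinearMap.id)).map
      (algebraMap L L') = EF * Y' * EG * (EG * X' * EF) + (1 - EF) := by
    rw [hmap, mat_comp F G F, mat_ofMat, mat_ofMat]
    congr 1
    · rw [Matrix.map_mul, Matrix.map_mul, Matrix.map_mul, Matrix.map_mul, Matrix.map_mul,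
        ← mat_baseChange_id, ← mat_baseChange_id]
    · have : (1 - mat F F LinearMap.id).map (algebraMap L L') =
          (1 : Matrix (Fin m) (Fin m) L).map (algebraMap L L') -
            (mat F F LinearMap.id).map (algebraMap L L') := by
        ext i j
        rw [Matrix.map_apply, Matrix.sub_apply, map_sub, Matrix.sub_apply, Matrix.map_apply,
          Matrix.map_apply]
      rw [this, ← mat_baseChange_id, Matrix.map_one _ (map_zero _) (map_one _)]
  rw [h1]
  -- the difference with `1`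
  have h2 : EF * Y' * EG * (EG * X' * EF) + (1 - EF) - 1 =
      -(g₁ * ((f₁ - X') * EF)) - (EF * ((g₁ - Y') * f₁)) +
        EF * ((g₁ - Y') * (EG * ((f₁ - X') * EF))) := by
    have e1 : EF * Y' * EG * (EG * X' * EF) = EF * (Y' * (EG * (X' * EF))) := by
      simp only [Matrix.mul_assoc]
      rw [← Matrix.mul_assoc EG EG, hEGG]
    have e2 : EF * ((g₁ - Y') * (EG * ((f₁ - X') * EF))) =
        EF * (g₁ * (EG * (f₁ * EF))) - EF * (g₁ * (EG * (X' * EF))) -
          EF * (Y' * (EG * (f₁ * EF))) + EF * (Y' * (EG * (X' * EF))) := by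
      simp only [Matrix.sub_mul, Matrix.mul_sub]
      abel
    have e3 : EF * (g₁ * (EG * (f₁ * EF))) = EF := by
      rw [hfE, hEf, hgf', hEFF]
    have e4 : EF * (g₁ * (EG * (X' * EF))) = g₁ * (X' * EF) := by
      rw [← Matrix.mul_assoc g₁ EG, hgE, ← Matrix.mul_assoc EF g₁, hEg]
    have e5 : EF * (Y' * (EG * (f₁ * EF))) = EF * (Y' * f₁) := by
      rw [hfE, hEf]
    have e6 : g₁ * ((f₁ - X') * EF) = EF - g₁ * (X' * EF) := by
      rw [Matrix.sub_mul, hfE, Matrix.mul_sub, hgf']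
    have e7 : EF * ((g₁ - Y') * f₁) = EF - EF * (Y' * f₁) := by
      rw [Matrix.sub_mul, Matrix.mul_sub, hgf', hEFF]
    rw [e1, e2, e3, e4, e5, e6, e7]
    abel
  rw [h2]
  have s1 : (f₁ - X') * EF ∈ MFil S t (1 + a + b + d + c) _ _ :=
    P.mul_mem_MFil_right hc hX (by omega)
  have s2 : g₁ * ((f₁ - X') * EF) ∈ MFil S t 1 _ _ :=
    P.mul_mem_MFil_left hb s1 (by omega)
  have s3 : (g₁ - Y') * f₁ ∈ MFil S t (1 + c) _ _ :=
    P.mul_mem_MFil_right ha hY (by omega)
  have s4 : EF * ((g₁ - Y') * f₁) ∈ MFil S t 1 _ _ :=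
    P.mul_mem_MFil_left hc s3 (by omega)
  have s5 : EG * ((f₁ - X') * EF) ∈ MFil S t (1 + c) _ _ :=
    P.mul_mem_MFil_left hd s1 (by omega)
  have s6 : (g₁ - Y') * (EG * ((f₁ - X') * EF)) ∈ MFil S t (1 + c) _ _ :=
    P.mul_mem_MFil_left (k := 0) (fun i j => by
      obtain ⟨s, hs, h⟩ := mem_Fil.mp (Fil_anti P.t_mem (Nat.zero_le _) (hY i j))
      rw [h, pow_zero, one_mul, one_mul]
      exact hs) s5 (by omega)
  have s7 : EF * ((g₁ - Y') * (EG * ((f₁ - X') * EF))) ∈ MFil S t 1 _ _ :=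
    P.mul_mem_MFil_left hc s6 (by omega)
  exact add_mem (sub_mem (neg_mem s2) s4) s7

/-- **(b)** f.g. projective `L`-modules that become isomorphic over `L'` are isomorphic. -/
theorem nonempty_linearEquiv [Module.Finite L M] [Module.Projective L M]
    [Module.Finite L N] [Module.Projective L N]
    (e : L' ⊗[L] M ≃ₗ[L'] L' ⊗[L] N) : Nonempty (M ≃ₗ[L] N) := by
  obtain ⟨m, ⟨F⟩⟩ := exists_frame L M
  obtain ⟨n, ⟨G⟩⟩ := exists_frame L N
  obtain ⟨k₁, hk₁⟩ := P.surjective_comp F G e.toLinearMap e.symm.toLinearMap (by ext; simp)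
  obtain ⟨k₂, hk₂⟩ := P.surjective_comp G F e.symm.toLinearMap e.toLinearMap (by ext; simp)
  obtain ⟨X, hX⟩ := P.exists_approx
    (mat (F.baseChange L') (G.baseChange L') e.toLinearMap) (k₁ + k₂)
  obtain ⟨Y, hY⟩ := P.exists_approx
    (mat (G.baseChange L') (F.baseChange L') e.symm.toLinearMap) (k₁ + k₂)
  have h1 : Function.Surjective (ofMat G F Y ∘ₗ ofMat F G X) :=
    hk₁ X Y (MFil_anti P.t_mem (by omega) hX) (MFil_anti P.t_mem (by omega) hY)
  have h2 : Function.Surjective (ofMat F G X ∘ₗ ofMat G F Y) :=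
    hk₂ Y X (MFil_anti P.t_mem (by omega) hY) (MFil_anti P.t_mem (by omega) hX)
  have h3 : Function.Injective (ofMat G F Y ∘ₗ ofMat F G X) :=
    OrzechProperty.injective_of_surjective_endomorphism _ h1
  refine ⟨LinearEquiv.ofBijective (ofMat F G X) ⟨?_, ?_⟩⟩
  · rw [LinearMap.coe_comp] at h3
    exact h3.of_comp
  · rw [LinearMap.coe_comp] at h2
    exact h2.of_comp

end ZarPair

end K88.ZarApprox
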