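import Groth.Agent.CAlg.K88.ZarApprox
import Groth.Agent.CAlg.K88.LaurentBasic
import Mathlib.RingTheory.PowerSeries.Trunc
import Mathlib.RingTheory.Localization.Defs

/-!
# The `ZarPair` structures over Laurent series rings

`powerSubring e` is the subring `R[[t]]` of a ring `L'` identified with `R((t))` by `e`.
`zarPair_of_localization` : `(R[t]_{1+tR[t]})[1/t] → R((t))`.
-/

set_option autoImplicit false

open Polynomial HahnSeries K88.ZarApprox

namespace K88.ZarLaurent

universe u v w

variable {R : Type u} [CommRing R] {L' : Type v} [CommRing L']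

/-- the subring of power series -/
noncomputable def powerSubring (e : L' ≃+* LaurentSeries R) : Subring L' :=
  (ofPowerSeries ℤ R).range.comap (e : L' →+* LaurentSeries R)

theorem mem_powerSubring {e : L' ≃+* LaurentSeries R} {x : L'} :
    x ∈ powerSubring e ↔ ∃ g : PowerSeries R, ofPowerSeries ℤ R g = e x := by
  rw [powerSubring, Subring.mem_comap, RingHom.mem_range]
  rfl

theorem single_pow' (n : ℕ) : (single (1 : ℤ) (1 : R)) ^ n = single (n : ℤ) 1 := by
  rw [single_pow]; simp

/-- the parts of the structure that do not involve `L`. -/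
theorem exists_pow (e : L' ≃+* LaurentSeries R) (x : L') :
    ∃ n : ℕ, (e.symm (single 1 1)) ^ n * x ∈ powerSubring e := by
  obtain ⟨N, g, hg⟩ := K88.LaurentBasic.exists_eq_single_mul (e x)
  refine ⟨N, mem_powerSubring.mpr ⟨g, ?_⟩⟩
  rw [map_mul, map_pow, RingEquiv.apply_symm_apply, hg, single_pow', ← mul_assoc,
    single_mul_single]
  simp

theorem t_mem (e : L' ≃+* LaurentSeries R) : e.symm (single 1 1) ∈ powerSubring e := by
  refine mem_powerSubring.mpr ⟨PowerSeries.X, ?_⟩
  rw [ofPowerSeries_X, RingEquiv.apply_symm_apply]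

theorem isUnit_one_add (e : L' ≃+* LaurentSeries R) {s : L'} (hs : s ∈ powerSubring e) :
    IsUnit (1 + e.symm (single 1 1) * s) := by
  obtain ⟨g, hg⟩ := mem_powerSubring.mp hs
  have h1 : e (1 + e.symm (single 1 1) * s) = ofPowerSeries ℤ R (1 + PowerSeries.X * g) := by
    rw [map_add, map_mul, map_one e, RingEquiv.apply_symm_apply, map_add,
      map_one (ofPowerSeries ℤ R), map_mul, ofPowerSeries_X, hg]
  have h2 : IsUnit (e (1 + e.symm (single 1 1) * s)) := by
    rw [h1]
    apply K88.LaurentBasic.isUnit_ofPowerSeries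
    simp
  have := h2.map (e.symm : LaurentSeries R →+* L')
  simpa using this

/-- approximation of power series by polynomials -/
theorem exists_poly (g : PowerSeries R) (n : ℕ) : ∃ (p : R[X]) (h : PowerSeries R),
    g = (p : PowerSeries R) + PowerSeries.X ^ n * h := by
  have h1 : PowerSeries.X ^ n ∣ g - (PowerSeries.trunc n g : PowerSeries R) := by
    rw [PowerSeries.X_pow_dvd_iff]
    intro m hm
    rw [map_sub, Polynomial.coeff_coe, PowerSeries.coeff_trunc, if_pos hm, sub_self]
  obtain ⟨h, hh⟩ := h1
  exact ⟨PowerSeries.trunc n g, h, by rw [← hh]; ring⟩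

section

variable {L : Type w} [CommRing L] [Algebra R[X] L] [Algebra L L']

theorem approx_of (e : L' ≃+* LaurentSeries R)
    (he : ∀ p : R[X], e (algebraMap L L' (algebraMap R[X] L p)) =
      ofPowerSeries ℤ R (p : PowerSeries R))
    (hX : IsUnit (algebraMap R[X] L X)) (x : L') (n : ℕ) :
    ∃ y : L, ∃ s ∈ powerSubring e, x = algebraMap L L' y + (e.symm (single 1 1)) ^ n * s := by
  obtain ⟨N, g, hg⟩ := K88.LaurentBasic.exists_eq_single_mul (e x)
  obtain ⟨p, h, hp⟩ := exists_poly g (N + n)
  obtain ⟨u, hu⟩ := hX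
  refine ⟨(↑(u⁻¹ ^ N) : L) * algebraMap R[X] L p, e.symm (ofPowerSeries ℤ R h), ?_, ?_⟩
  · exact mem_powerSubring.mpr ⟨h, by simp⟩
  · apply e.injective
    have h1 : e (algebraMap L L' (↑(u⁻¹ ^ N) : L)) = single (-(N : ℤ)) (1 : R) := by
      have h2 : e (algebraMap L L' (↑(u ^ N) : L)) = single (N : ℤ) (1 : R) := by
        rw [Units.val_pow_eq_pow_val, hu, ← map_pow, he, Polynomial.coe_pow, Polynomial.coe_X,
          ofPowerSeries_X_pow]
      have h3 : e (algebraMap L L' (↑(u⁻¹ ^ N) : L)) * e (algebraMap L L' (↑(u ^ N) : L)) = 1 := by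
        rw [← map_mul, ← map_mul, ← Units.val_mul, ← mul_pow, inv_mul_cancel, one_pow,
          Units.val_one, map_one, map_one]
      rw [h2] at h3
      have h4 : single (-(N : ℤ)) (1 : R) * single (N : ℤ) (1 : R) = 1 := by
        rw [single_mul_single]; simp
      have h5 : IsUnit (single (N : ℤ) (1 : R)) := K88.LaurentBasic.isUnit_single _
      exact h5.mul_right_cancel (h3.trans h4.symm)
    rw [map_add, map_mul, map_mul, map_mul, map_pow, RingEquiv.apply_symm_apply,
      RingEquiv.apply_symm_apply, h1, he, hg, hp, map_add, map_mul, mul_add,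
      ofPowerSeries_X_pow, ← mul_assoc, single_mul_single, single_pow']
    have h6 : -(N : ℤ) + ((N + n : ℕ) : ℤ) = n := by push_cast; ring
    rw [h6, one_mul]

/-- elements of the monoid generated by `X` and the polynomials with constant term one -/
theorem mem_closure_iff' {f : R[X]} :
    f ∈ Submonoid.closure ({f : R[X] | f.coeff 0 = 1} ∪ {X}) ↔
      ∃ (k : ℕ) (q : R[X]), q.coeff 0 = 1 ∧ f = X ^ k * q := by
  constructor
  · intro hf
    induction hf using Submonoid.closure_induction with
    | mem x hx =>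
      rcases hx with hx | hx
      · exact ⟨0, x, hx, by simp⟩
      · rw [Set.mem_singleton_iff] at hx
        exact ⟨1, 1, by simp, by simp [hx]⟩
    | one => exact ⟨0, 1, by simp, by simp⟩
    | mul x y _ _ hx hy =>
      obtain ⟨k, q, hq, rfl⟩ := hx
      obtain ⟨l, r, hr, rfl⟩ := hy
      exact ⟨k + l, q * r, by rw [Polynomial.mul_coeff_zero, hq, hr, one_mul], by ring⟩
  · rintro ⟨k, q, hq, rfl⟩
    refine Submonoid.mul_mem _ (Submonoid.pow_mem _ (Submonoid.subset_closure ?_) _)
      (Submonoid.subset_closure ?_)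
    · right; rfl
    · left; exact hq

theorem zarPair_of_localization
    [IsLocalization (Submonoid.closure ({f : R[X] | f.coeff 0 = 1} ∪ {X})) L]
    (e : L' ≃+* LaurentSeries R)
    (he : ∀ p : R[X], e (algebraMap L L' (algebraMap R[X] L p)) =
      ofPowerSeries ℤ R (p : PowerSeries R)) :
    ZarPair L L' (powerSubring e) (e.symm (single 1 1)) where
  t_mem := t_mem e
  exists_pow := exists_pow e
  approx := approx_of e he (IsLocalization.map_units L
    (⟨X, Submonoid.subset_closure (Or.inr rfl)⟩ :
      Submonoid.closure ({f : R[X] | f.coeff 0 = 1} ∪ {X})))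
  unit_one_add := fun s hs => isUnit_one_add e hs
  unit_of := by
    rintro y ⟨s, hs, hy⟩
    obtain ⟨h, hh⟩ := mem_powerSubring.mp hs
    obtain ⟨⟨p, q⟩, hpq⟩ := IsLocalization.surj
      (Submonoid.closure ({f : R[X] | f.coeff 0 = 1} ∪ {X})) y
    obtain ⟨k, r, hr, hq⟩ := mem_closure_iff'.mp q.2
    -- `p = X^k r (1 + X h)` in power series
    have h1 : (p : PowerSeries R) = PowerSeries.X ^ k * ((r : PowerSeries R) *
        (1 + PowerSeries.X * h)) := by
      apply ofPowerSeries_injective (Γ := ℤ)
      rw [← he, ← hpq, map_mul, map_mul, hy, he, map_add, map_one e, map_mul,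
        RingEquiv.apply_symm_apply, ← hh]
      change (1 + single 1 1 * ofPowerSeries ℤ R h) * ofPowerSeries ℤ R ((q : R[X]) : PowerSeries R) = _
      rw [hq, Polynomial.coe_mul, Polynomial.coe_pow, Polynomial.coe_X, map_mul, map_mul, map_mul,
        map_add, map_mul, map_one (ofPowerSeries ℤ R), ofPowerSeries_X]
      ring
    have h2 : X ^ k ∣ p := by
      rw [Polynomial.X_pow_dvd_iff]
      intro d hd
      have h3 := congrArg (PowerSeries.coeff d) h1
      rw [Polynomial.coeff_coe] at h3
      rw [h3]
      exact PowerSeries.X_pow_dvd_iff.mp (Dvd.intro _ rfl) d hd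
    obtain ⟨p', rfl⟩ := h2
    have h4 : p'.coeff 0 = 1 := by
      have h3 := congrArg (PowerSeries.coeff k) h1
      rw [Polynomial.coeff_coe] at h3
      have h5 : (X ^ k * p').coeff k = p'.coeff 0 := by
        have := Polynomial.coeff_X_pow_mul p' k 0
        simpa using this
      rw [h5] at h3
      rw [h3]
      have h6 : (PowerSeries.coeff k) (PowerSeries.X ^ k * ((r : PowerSeries R) *
          (1 + PowerSeries.X * h))) = PowerSeries.coeff 0 ((r : PowerSeries R) *
          (1 + PowerSeries.X * h)) := by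
        have := PowerSeries.coeff_X_pow_mul ((r : PowerSeries R) * (1 + PowerSeries.X * h)) k 0
        simpa using this
      rw [h6]
      have h7 : PowerSeries.constantCoeff (r : PowerSeries R) = 1 := by
        rw [← PowerSeries.coeff_zero_eq_constantCoeff_apply, Polynomial.coeff_coe]
        exact hr
      rw [PowerSeries.coeff_zero_eq_constantCoeff_apply, map_mul, h7]
      simp
    have hu : IsUnit (algebraMap R[X] L (X ^ k * p')) :=
      IsLocalization.map_units L (⟨X ^ k * p', mem_closure_iff'.mpr ⟨k, p', h4, rfl⟩⟩ :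
        Submonoid.closure ({f : R[X] | f.coeff 0 = 1} ∪ {X}))
    change y * algebraMap R[X] L (q : R[X]) = algebraMap R[X] L (X ^ k * p') at hpq
    rw [← hpq] at hu
    exact isUnit_of_mul_isUnit_left hu

end

end K88.ZarLaurent
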